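import Mathlib
import Cfsg.Prelude.Def_Blocks
import Cfsg.Prelude.Def_BlockRank
import Cfsg.Agent.Blocks.Orthogonality
import Cfsg.Agent.Blocks.SepCentral
import Cfsg.Agent.Blocks.Local
import Cfsg.Agent.Characters.Core
import Cfsg.Agent.S0913
import Cfsg.Agent.S0961
set_option linter.all false

/-!
# The form `[χ, ψ]⁰` (inner product over the `p`-regular elements) on a block

* `pRegularPart_eq_sum`: for `χ ∈ B`, the `p`-regular part of `χ` (zero on the `p`-singular elements)
  is the combination of the members `ψ` of `B` with coefficients `[χ⁰, ψ]`.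
* `exists_int_pow_full`: `p ^ a * [χ⁰, ψ]` is an integer, `p ^ a` the `p`-part of `#G`.
* `exists_int_pow_defect`: `p ^ d * [χ⁰, ψ]` is an integer, `d` the defect of `B`.
-/

set_option autoImplicit false

namespace Cfsg.Agent.H646.RegInner

open Cfsg
open scoped ComplexConjugate

variable {G : Type*} [Group G]

theorem pRegularPart_of_not_dvd {p : ℕ} {χ : G → ℂ} {g : G}
    (hg : ¬ p ∣ orderOf g) : pRegularPart p χ g = χ g := by
  unfold pRegularPart
  exact if_pos hg

theorem pRegularPart_of_dvd {p : ℕ} {χ : G → ℂ} {g : G}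
    (hg : p ∣ orderOf g) : pRegularPart p χ g = 0 := by
  unfold pRegularPart
  exact if_neg (not_not.mpr hg)

theorem pRegularPart_apply (p : ℕ) (χ : G → ℂ) (g : G) :
    pRegularPart p χ g = if p ∣ orderOf g then 0 else χ g := by
  split_ifs with h
  · exact pRegularPart_of_dvd h
  · exact pRegularPart_of_not_dvd h

theorem orderOf_conj (g h : G) : orderOf (h * g * h⁻¹) = orderOf g := by
  have := orderOf_injective (MulAut.conj h).toMonoidHom (MulAut.conj h).injective g
  simpa using this

theorem isClassFunction_pRegularPart {p : ℕ} {χ : G → ℂ} (hχ : IsClassFunction G χ) :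
    IsClassFunction G (pRegularPart p χ) := by
  intro g h
  rw [pRegularPart_apply, pRegularPart_apply, orderOf_conj, hχ g h]

theorem pRegularPart_pRegularPart (p : ℕ) (χ : G → ℂ) :
    pRegularPart p (pRegularPart p χ) = pRegularPart p χ := by
  ext g
  rw [pRegularPart_apply]
  split_ifs with h
  · rw [pRegularPart_of_dvd h]
  · rfl

/-- The `p`-regular part as a linear map. -/
noncomputable def regMap (p : ℕ) (G : Type*) [Group G] : (G → ℂ) →ₗ[ℂ] (G → ℂ) where
  toFun := pRegularPart p
  map_add' f g := by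
    ext x
    rw [Pi.add_apply, pRegularPart_apply, pRegularPart_apply, pRegularPart_apply]
    split_ifs <;> simp
  map_smul' c f := by
    ext x
    rw [RingHom.id_apply, Pi.smul_apply, pRegularPart_apply, pRegularPart_apply]
    split_ifs <;> simp

theorem regMap_apply (p : ℕ) (χ : G → ℂ) : regMap p G χ = pRegularPart p χ := rfl

section

variable [Fintype G] {p : ℕ} {M : Ideal AlgInt}

/-- Characters in different blocks are orthogonal over the `p`-regular elements. -/
theorem classInner_pRegularPart_eq_zero (hM : IsPModular p M) [Fact p.Prime]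
    {B : Set (IrrCharacter G)} (hB : IsPBlock M B)
    {χ ψ : IrrCharacter G} (hχ : χ ∈ B) (hψ : ψ ∉ B) :
    classInner (pRegularPart p (χ : G → ℂ)) (ψ : G → ℂ) = 0 := by
  classical
  have h := Blocks.Orthogonality.orthogonal_on_p_regular hM B (S0913.result p M hM B hB) χ ψ hχ hψ
  rw [Blocks.Basic.classInner_def]
  have h1 : ∑ g, pRegularPart p (χ : G → ℂ) g * conj ((ψ : G → ℂ) g) =
      ∑ᶠ x ∈ {x : G | ¬ p ∣ orderOf x}, (χ : G → ℂ) x * conj ((ψ : G → ℂ) x) := by
    rw [finsum_mem_eq_finite_toFinset_sum _ (Set.toFinite _)]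
    rw [← Finset.sum_subset (Finset.subset_univ (Set.toFinite {x : G | ¬ p ∣ orderOf x}).toFinset)]
    · refine Finset.sum_congr rfl fun x hx => ?_
      rw [Set.Finite.mem_toFinset] at hx
      rw [pRegularPart_of_not_dvd hx]
    · intro x _ hx
      rw [Set.Finite.mem_toFinset] at hx
      rw [pRegularPart_of_dvd (not_not.mp hx), zero_mul]
  rw [h1, h, mul_zero]

/-- For `χ ∈ B` the `p`-regular part of `χ` is a combination of the members of `B`. -/
theorem pRegularPart_eq_sum (hM : IsPModular p M) [Fact p.Prime]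
    {B : Set (IrrCharacter G)} (hB : IsPBlock M B) [Fintype (IrrCharacter G)]
    [DecidablePred (· ∈ B)] {χ : IrrCharacter G} (hχ : χ ∈ B) :
    pRegularPart p (χ : G → ℂ) = ∑ ψ : IrrCharacter G with ψ ∈ B,
      classInner (pRegularPart p (χ : G → ℂ)) (ψ : G → ℂ) • (ψ : G → ℂ) := by
  have hcl := isClassFunction_pRegularPart (p := p) (Blocks.Basic.irr_isClassFunction χ.2)
  conv_lhs => rw [Characters.Core.classFunction_eq_sum hcl]
  rw [Finset.sum_filter]
  refine Finset.sum_congr rfl fun ψ _ => ?_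
  split_ifs with h
  · rfl
  · rw [classInner_pRegularPart_eq_zero hM hB hχ h, zero_smul]

/-- `p ^ a * [χ⁰, ψ]` is an integer. -/
theorem exists_int_pow_full [Fact p.Prime] (χ ψ : IrrCharacter G) :
    ∃ n : ℤ, ((p ^ (Nat.card G).factorization p : ℕ) : ℂ) *
      classInner (pRegularPart p (χ : G → ℂ)) (ψ : G → ℂ) = n := by
  have h := S0961.result p χ
  obtain ⟨α, β, hα, hβ, hαβ⟩ := h
  obtain ⟨a, ha⟩ := Characters.Core.classInner_isNat hα (Blocks.Basic.irr_isCharacter ψ.2)
  obtain ⟨b, hb⟩ := Characters.Core.classInner_isNat hβ (Blocks.Basic.irr_isCharacter ψ.2)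
  refine ⟨(a : ℤ) - b, ?_⟩
  push_cast
  rw [← ha, ← hb, ← Characters.Core.classInner_sub_left, ← hαβ,
    ← Characters.Core.classInner_smul_left]
  congr 1
  ext x
  rw [Pi.smul_apply, pRegularPart_apply, smul_eq_mul]
  split_ifs <;> simp

/-- `(#G / χ(1)) * [χ⁰, ψ]` is an algebraic integer. -/
theorem isIntegral_card_div (χ ψ : IrrCharacter G) :
    IsIntegral ℤ ((Nat.card G : ℂ) / (χ : G → ℂ) 1 *
      classInner (pRegularPart p (χ : G → ℂ)) (ψ : G → ℂ)) := by
  have h1 : (Nat.card G : ℂ) / (χ : G → ℂ) 1 *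
      classInner (pRegularPart p (χ : G → ℂ)) (ψ : G → ℂ) =
      Blocks.ConvCentral.lin (χ : G → ℂ) (pRegularPart p (fun g => conj ((ψ : G → ℂ) g))) /
        (χ : G → ℂ) 1 := by
    rw [Blocks.Basic.classInner_def, Blocks.ConvCentral.lin_def]
    have hne : (Nat.card G : ℂ) ≠ 0 := by exact_mod_cast Nat.card_pos.ne'
    have h2 : ∑ g, pRegularPart p (χ : G → ℂ) g * conj ((ψ : G → ℂ) g) =
        ∑ g, pRegularPart p (fun g => conj ((ψ : G → ℂ) g)) g * (χ : G → ℂ) g := by
      refine Finset.sum_congr rfl fun g _ => ?_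
      rw [pRegularPart_apply, pRegularPart_apply]
      split_ifs
      · simp
      · ring
    rw [h2]
    field_simp
  rw [h1]
  refine Blocks.SepCentral.isIntegral_lin_div' χ.2 ?_ ?_
  · refine isClassFunction_pRegularPart fun g h => ?_
    rw [Blocks.Basic.irr_isClassFunction ψ.2 g h]
  · intro g
    rw [pRegularPart_apply]
    split_ifs
    · exact isIntegral_zero
    · rw [← Blocks.Orthogonality.irr_apply_inv ψ.2]
      exact Blocks.Central.isIntegral_irr ψ.2 _

omit [Fintype G] in
/-- The defect of a block: the `p`-part of the degree of a member is at least `a - d`. -/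
theorem factorization_le_add (B : Set (IrrCharacter G)) {χ : IrrCharacter G} (hχ : χ ∈ B) :
    (Nat.card G).factorization p ≤
      blockDefect p B + (charDegree (χ : G → ℂ)).factorization p := by
  rw [Blocks.Basic.blockDefect_def]
  have h : sInf ((fun χ : IrrCharacter G => (charDegree (χ : G → ℂ)).factorization p) '' B) ≤
      (charDegree (χ : G → ℂ)).factorization p :=
    Nat.sInf_le ⟨χ, hχ, rfl⟩
  omega

/-- A rational number with denominator a power of `p` which is a local integer is an integer. -/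
theorem exists_int_of_memLocalRing (hM : IsPModular p M) [Fact p.Prime] {z : ℂ} {e : ℕ} {k : ℤ}
    (h1 : ((p ^ e : ℕ) : ℂ) * z = k) (h2 : MemLocalRing M z) : ∃ n : ℤ, z = n := by
  have hp : p.Prime := Fact.out
  have hP : M.IsPrime := hM.2.1.isPrime
  induction e generalizing k with
  | zero => exact ⟨k, by simpa using h1⟩
  | succ e ih =>
    have h3 : MemLocalIdeal M (k : ℂ) := by
      rw [← h1]
      refine Blocks.Local.memLocalIdeal_mul_right ?_ h2
      rw [Blocks.Local.memLocalIdeal_natCast_iff hM]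
      exact dvd_pow_self p (Nat.succ_ne_zero e)
    rw [Blocks.Local.memLocalIdeal_intCast_iff hM] at h3
    obtain ⟨k', rfl⟩ := h3
    refine ih (k := k') ?_
    have hp0 : (p : ℂ) ≠ 0 := by exact_mod_cast hp.ne_zero
    push_cast at h1 ⊢
    rw [pow_succ] at h1
    have h4 : (p : ℂ) * ((p : ℂ) ^ e * z) = p * k' := by rw [← h1]; ring
    exact mul_left_cancel₀ hp0 h4

/-- `p ^ d * [χ⁰, ψ]` is an integer when `χ` is in a block of defect `d`. -/
theorem exists_int_pow_defect (hM : IsPModular p M) [Fact p.Prime]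
    {B : Set (IrrCharacter G)} {χ : IrrCharacter G} (hχ : χ ∈ B) (ψ : IrrCharacter G) :
    ∃ n : ℤ, ((p ^ blockDefect p B : ℕ) : ℂ) *
      classInner (pRegularPart p (χ : G → ℂ)) (ψ : G → ℂ) = n := by
  have hp : p.Prime := Fact.out
  have hP : M.IsPrime := hM.2.1.isPrime
  set c := classInner (pRegularPart p (χ : G → ℂ)) (ψ : G → ℂ) with hc
  set a := (Nat.card G).factorization p with ha
  set v := (charDegree (χ : G → ℂ)).factorization p with hv
  have hle := factorization_le_add (p := p) B hχ
  obtain ⟨k, hk⟩ := exists_int_pow_full (p := p) χ ψ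
  rw [← hc] at hk
  refine exists_int_of_memLocalRing hM (e := a) (k := p ^ blockDefect p B * k) ?_ ?_
  · push_cast
    rw [← hk]
    push_cast
    ring
  · -- valuations
    have h1 := isIntegral_card_div (p := p) χ ψ
    rw [← hc, Blocks.Basic.irr_one_eq_charDegree χ.2] at h1
    set n := Nat.card G with hn
    set m := charDegree (χ : G → ℂ) with hm
    have hn0 : n ≠ 0 := Nat.card_pos.ne'
    have hm0 : m ≠ 0 := (Blocks.Basic.charDegree_pos χ.2).ne'
    have hn1 : p ^ a * (n / p ^ a) = n := Nat.ordProj_mul_ordCompl_eq_self n p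
    have hm1 : p ^ v * (m / p ^ v) = m := Nat.ordProj_mul_ordCompl_eq_self m p
    have hn2 : ¬ p ∣ n / p ^ a := Nat.not_dvd_ordCompl hp hn0
    have hn3 : ((n / p ^ a : ℕ) : ℂ) ≠ 0 := by
      intro h
      apply hn2
      have : n / p ^ a = 0 := by exact_mod_cast h
      rw [this]; exact dvd_zero p
    have hm3 : ((m / p ^ v : ℕ) : ℂ) ≠ 0 := by
      intro h
      have : m / p ^ v = 0 := by exact_mod_cast h
      rw [this, mul_zero] at hm1
      exact hm0 hm1.symm
    have hp0 : (p : ℂ) ≠ 0 := by exact_mod_cast hp.ne_zero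
    obtain ⟨t, ht⟩ : ∃ t, blockDefect p B + v = a + t := ⟨_, (Nat.add_sub_cancel' hle).symm⟩
    have h2 : ((p ^ blockDefect p B : ℕ) : ℂ) * c =
        ((p ^ t * (m / p ^ v) : ℕ) : ℂ) * ((((n / p ^ a : ℕ) : ℂ)⁻¹) * ((n : ℂ) / m * c)) := by
      have h3 : (n : ℂ) = (p : ℂ) ^ a * ((n / p ^ a : ℕ) : ℂ) := by
        conv_lhs => rw [← hn1]
        push_cast
        rfl
      have h4 : (m : ℂ) = (p : ℂ) ^ v * ((m / p ^ v : ℕ) : ℂ) := by
        conv_lhs => rw [← hm1]
        push_cast
        rfl
      have h5 : (p : ℂ) ^ blockDefect p B * (p : ℂ) ^ v = (p : ℂ) ^ a * (p : ℂ) ^ t := by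
        rw [← pow_add, ← pow_add, ht]
      rw [h3, h4]
      generalize ((n / p ^ a : ℕ) : ℂ) = X at *
      push_cast
      generalize hY : (((m / p ^ v : ℕ) : ℂ)) = Y at *
      field_simp
      linear_combination c * h5
    rw [h2]
    refine Blocks.Local.memLocalRing_mul (Blocks.Local.memLocalRing_natCast _)
      (Blocks.Local.memLocalRing_mul ?_ (Blocks.Local.memLocalRing_of_isIntegral h1))
    exact Blocks.Local.memLocalRing_inv_natCast hM hn2

end

end Cfsg.Agent.H646.RegInner
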