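import Mathlib
import Cfsg.Prelude.Def_BlockRank
import Cfsg.Agent.H646.RegInner
set_option linter.all false

/-!
# The `p`-regular rank of a block as a trace

`blockRank_eq_sum`: `l(B) = ∑ ψ ∈ B, [ψ⁰, ψ]`, and
`card_mul_blockRank`: `#G * l(B) = ∑ ψ ∈ B, ∑ x, |ψ⁰(x)|²`.
-/

set_option autoImplicit false

namespace Cfsg.Agent.H646.RankTrace

open Cfsg
open Cfsg.Agent.H646.RegInner
open scoped ComplexConjugate

variable {G : Type*} [Group G] [Fintype G] {p : ℕ} {M : Ideal AlgInt}

/-- The span of the `p`-regular parts of the members of `B`. -/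
noncomputable def regSpan (p : ℕ) (B : Set (IrrCharacter G)) : Submodule ℂ (G → ℂ) :=
  Submodule.span ℂ ((fun χ : IrrCharacter G => pRegularPart p (χ : G → ℂ)) '' B)

omit [Fintype G] in
theorem blockRank_eq_finrank (p : ℕ) (B : Set (IrrCharacter G)) :
    blockRank p B = Module.finrank ℂ (regSpan p B) := rfl

omit [Fintype G] in
theorem pRegularPart_mem_regSpan {B : Set (IrrCharacter G)} {χ : IrrCharacter G} (hχ : χ ∈ B) :
    pRegularPart p (χ : G → ℂ) ∈ regSpan p B :=
  Submodule.subset_span ⟨χ, hχ, rfl⟩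

/-- The inner product with a fixed function as a linear form. -/
noncomputable def innerForm (ψ : G → ℂ) : (G → ℂ) →ₗ[ℂ] ℂ where
  toFun f := classInner f ψ
  map_add' f g := Characters.Core.classInner_add_left f g ψ
  map_smul' c f := Characters.Core.classInner_smul_left c f ψ

theorem innerForm_apply (ψ f : G → ℂ) : innerForm ψ f = classInner f ψ := rfl

/-- `l(B) = ∑ ψ ∈ B, [ψ⁰, ψ]`. -/
theorem blockRank_eq_sum (hM : IsPModular p M) [Fact p.Prime]
    {B : Set (IrrCharacter G)} (hB : IsPBlock M B) [Fintype (IrrCharacter G)]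
    [DecidablePred (· ∈ B)] :
    (blockRank p B : ℂ) = ∑ ψ : IrrCharacter G with ψ ∈ B,
      classInner (pRegularPart p (ψ : G → ℂ)) (ψ : G → ℂ) := by
  let E : (G → ℂ) →ₗ[ℂ] (G → ℂ) := ∑ ψ : IrrCharacter G with ψ ∈ B,
    (innerForm (ψ : G → ℂ)).smulRight (pRegularPart p (ψ : G → ℂ))
  have hE : ∀ f, E f = ∑ ψ : IrrCharacter G with ψ ∈ B,
      classInner f (ψ : G → ℂ) • pRegularPart p (ψ : G → ℂ) := by
    intro f
    rw [LinearMap.sum_apply]
    rfl
  have hproj : LinearMap.IsProj (regSpan p B) E := by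
    refine ⟨fun f => ?_, fun f hf => ?_⟩
    · rw [hE]
      refine Submodule.sum_mem _ fun ψ hψ => Submodule.smul_mem _ _ (pRegularPart_mem_regSpan ?_)
      simpa using hψ
    · refine Submodule.span_induction (p := fun f _ => E f = f) ?_ ?_ ?_ ?_ hf
      · rintro _ ⟨χ, hχ, rfl⟩
        have h1 := pRegularPart_eq_sum hM hB hχ
        have h2 : pRegularPart p (pRegularPart p (χ : G → ℂ)) = ∑ ψ : IrrCharacter G with ψ ∈ B,
            classInner (pRegularPart p (χ : G → ℂ)) (ψ : G → ℂ) • pRegularPart p (ψ : G → ℂ) := by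
          conv_lhs => rw [h1, ← regMap_apply, map_sum]
          refine Finset.sum_congr rfl fun ψ _ => ?_
          rw [map_smul, regMap_apply]
        rw [hE, ← h2, pRegularPart_pRegularPart]
      · exact map_zero E
      · intro x y _ _ hx hy
        rw [map_add, hx, hy]
      · intro c x _ hx
        rw [map_smul, hx]
  have htr := hproj.trace
  rw [blockRank_eq_finrank, ← htr, map_sum]
  refine Finset.sum_congr rfl fun ψ _ => ?_
  rw [LinearMap.trace_smulRight, innerForm_apply]

/-- `#G * l(B) = ∑ ψ ∈ B, ∑ x, ψ⁰(x) * conj (ψ x)`. -/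
theorem card_mul_blockRank (hM : IsPModular p M) [Fact p.Prime]
    {B : Set (IrrCharacter G)} (hB : IsPBlock M B) [Fintype (IrrCharacter G)]
    [DecidablePred (· ∈ B)] :
    (Nat.card G : ℂ) * (blockRank p B : ℂ) = ∑ ψ : IrrCharacter G with ψ ∈ B,
      ∑ x : G, pRegularPart p (ψ : G → ℂ) x * conj ((ψ : G → ℂ) x) := by
  have hne : (Nat.card G : ℂ) ≠ 0 := by exact_mod_cast Nat.card_pos.ne'
  rw [blockRank_eq_sum hM hB, Finset.mul_sum]
  refine Finset.sum_congr rfl fun ψ _ => ?_
  rw [Blocks.Basic.classInner_def, ← mul_assoc, mul_inv_cancel₀ hne, one_mul]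

end Cfsg.Agent.H646.RankTrace
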