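import Mathlib
import Cfsg.Agent.H644.Center
import Cfsg.Agent.Blocks.Knorr
set_option linter.all false

/-!
# The rank of an idempotent modulo `M`

* `rank_map_redC`: an idempotent complex matrix with entries in the local ring at `M` has the same
  rank as its reduction modulo `M`;
* `convK u`: the matrix of right multiplication by `u` on a group algebra;
* `rank_convK_idem`: `dim K[G] (idem B) = ∑ χ ∈ B, χ(1)²`.
-/

set_option autoImplicit false

namespace Cfsg.Agent.H646.RankIdem

open Cfsg Polynomial
open Cfsg.Agent.Blocks.Local Cfsg.Agent.H644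

section Field

variable {F : Type*} [Field F]

/-- The characteristic polynomial of an idempotent. -/
theorem charpoly_of_idem {V : Type*} [AddCommGroup V] [Module F V] [FiniteDimensional F V]
    {f : V →ₗ[F] V} (hf : IsIdempotentElem f) :
    f.charpoly = (X - 1) ^ Module.finrank F (LinearMap.range f) *
      X ^ Module.finrank F (LinearMap.ker f) := by
  have h := LinearMap.IsIdempotentElem.isProj_range f hf
  conv_lhs => rw [h.eq_conj_prodMap]
  rw [LinearEquiv.charpoly_conj, LinearMap.charpoly_prodMap, LinearMap.charpoly_zero]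
  congr 1
  exact LinearMap.charpoly_one

variable {n : Type*} [Fintype n] [DecidableEq n]

theorem charpoly_matrix_of_idem {A : Matrix n n F} (hA : A * A = A) :
    A.charpoly = (X - 1) ^ A.rank * X ^ (Fintype.card n - A.rank) := by
  have h1 : IsIdempotentElem (Matrix.toLin' A) := by
    unfold IsIdempotentElem
    rw [Module.End.mul_eq_comp, ← Matrix.toLin'_mul, hA]
  have h2 := charpoly_of_idem h1
  rw [Matrix.charpoly_toLin'] at h2
  rw [h2]
  have h3 : Module.finrank F (LinearMap.range (Matrix.toLin' A)) = A.rank := rfl
  have h4 := LinearMap.finrank_range_add_finrank_ker (Matrix.toLin' A)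
  rw [Module.finrank_fintype_fun_eq_card, h3] at h4
  rw [h3, ← h4, Nat.add_sub_cancel_left]

/-- Two such polynomials are equal only if the exponents are. -/
theorem eq_of_pow_mul_pow {N r s : ℕ} (hr : r ≤ N) (hs : s ≤ N)
    (h : ((X : F[X]) - 1) ^ r * X ^ (N - r) = (X - 1) ^ s * X ^ (N - s)) : r = s := by
  have key : ∀ {r s : ℕ}, r ≤ N → s ≤ N →
      ((X : F[X]) - 1) ^ r * X ^ (N - r) = (X - 1) ^ s * X ^ (N - s) → ¬ r < s := by
    intro r s hr hs h hlt
    have h1 : ((X : F[X]) - 1) ≠ 0 := by
      have := Polynomial.X_sub_C_ne_zero (1 : F)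
      rwa [map_one] at this
    have h2 : N - r = (N - s) + (s - r) := by omega
    have h3 : s = r + (s - r) := by omega
    rw [h2, pow_add X] at h
    conv_rhs at h => rw [h3]
    rw [pow_add (X - 1)] at h
    have h4 : (X : F[X]) ^ (s - r) = (X - 1) ^ (s - r) := by
      refine mul_left_cancel₀ (pow_ne_zero r h1) ?_
      refine mul_right_cancel₀ (pow_ne_zero (N - s) (Polynomial.X_ne_zero (R := F))) ?_
      have h5 : N - (r + (s - r)) = N - s := by omega
      rw [h5] at h
      calc (X - 1) ^ r * X ^ (s - r) * X ^ (N - s) = (X - 1) ^ r * (X ^ (N - s) * X ^ (s - r)) := by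
            ring
        _ = _ := h
    have h5 := congrArg (Polynomial.eval 1) h4
    have h6 : s - r ≠ 0 := by omega
    simp [h6] at h5
  rcases lt_trichotomy r s with h1 | h1 | h1
  · exact absurd h1 (key hr hs h)
  · exact h1
  · exact absurd h1 (key hs hr h.symm)

end Field

section Local

variable {M : Ideal AlgInt} [M.IsPrime] {n : Type*} [Fintype n]

/-- The reduction of an idempotent matrix has the same rank. -/
theorem rank_map_redC (A : Matrix n n ℂ) (hA : ∀ i j, MemLocalRing M (A i j)) (hAA : A * A = A) :
    (A.map (redC M)).rank = A.rank := by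
  classical
  have hlin : ∀ i j, redC M (A i j) = red M ⟨A i j, hA i j⟩ := fun i j => redC_def (hA i j)
  let A' : Matrix n n (localRing M) := Matrix.of fun i j => ⟨A i j, hA i j⟩
  have h1 : A'.map (localRing M).subtype = A := by
    ext i j
    rfl
  have h2 : A'.map (red M) = A.map (redC M) := by
    ext i j
    exact (hlin i j).symm
  have hA'A' : A' * A' = A' := by
    have h3 : (A' * A').map (localRing M).subtype = A'.map (localRing M).subtype := by
      rw [Matrix.map_mul, h1, hAA]
    ext i j
    have := congrFun (congrFun h3 i) j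
    exact this
  have hBB : A.map (redC M) * A.map (redC M) = A.map (redC M) := by
    rw [← h2, ← Matrix.map_mul, hA'A']
  have h3 : A'.charpoly = (X - 1) ^ A.rank * X ^ (Fintype.card n - A.rank) := by
    apply Polynomial.map_injective (localRing M).subtype (Subring.subtype_injective _)
    rw [← Matrix.charpoly_map, h1, charpoly_matrix_of_idem hAA]
    simp
  have h4 := charpoly_matrix_of_idem hBB
  rw [← h2, Matrix.charpoly_map, h3] at h4
  simp only [Polynomial.map_mul, Polynomial.map_pow, Polynomial.map_sub, Polynomial.map_X,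
    Polynomial.map_one] at h4
  rw [← h2]
  exact (eq_of_pow_mul_pow (Matrix.rank_le_card_width A) (Matrix.rank_le_card_width _) h4).symm

end Local

section Conv

variable {F : Type*} [Field F] {G : Type*} [Group G]

/-- The matrix of right multiplication by the function `e`. -/
def convM (e : G → F) : Matrix G G F := Matrix.of fun x y => e (y⁻¹ * x)

theorem convM_apply (e : G → F) (x y : G) : convM e x y = e (y⁻¹ * x) := rfl

/-- The matrix of right multiplication by `u`. -/
noncomputable def convK (u : MonoidAlgebra F G) : Matrix G G F := convM fun g => u.coeff g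

theorem convK_apply (u : MonoidAlgebra F G) (x y : G) : convK u x y = u.coeff (y⁻¹ * x) := rfl

variable [Fintype G]

theorem convK_mulVec (u a : MonoidAlgebra F G) :
    (convK u).mulVec (fun g => a.coeff g) = fun g => (a * u).coeff g := by
  funext g
  rw [Matrix.mulVec, dotProduct, coeff_mul_eq_sum]
  refine Finset.sum_congr rfl fun y _ => ?_
  rw [convK_apply, mul_comm]

theorem convK_mul (u v : MonoidAlgebra F G) : convK v * convK u = convK (u * v) := by
  ext x y
  rw [Matrix.mul_apply, convK_apply, coeff_mul_eq_sum]
  refine Fintype.sum_equiv (Equiv.mulLeft y⁻¹) _ _ fun z => ?_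
  rw [convK_apply, convK_apply, Equiv.coe_mulLeft, mul_comm]
  congr 2
  group

theorem trace_convM (e : G → F) : (convM e).trace = (Nat.card G : F) * e 1 := by
  classical
  rw [Matrix.trace]
  simp only [Matrix.diag_apply, convM_apply, inv_mul_cancel]
  rw [Finset.sum_const, nsmul_eq_mul, Finset.card_univ, Nat.card_eq_fintype_card]

/-- The rank of an idempotent matrix in characteristic zero is its trace. -/
theorem rank_eq_trace {n : Type*} [Fintype n] {A : Matrix n n ℂ}
    (hA : A * A = A) : (A.rank : ℂ) = A.trace := by
  classical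
  have h1 : IsIdempotentElem (Matrix.toLin' A) := by
    unfold IsIdempotentElem
    rw [Module.End.mul_eq_comp, ← Matrix.toLin'_mul, hA]
  have h2 := (LinearMap.IsIdempotentElem.isProj_range _ h1).trace
  rw [Matrix.trace_toLin'_eq] at h2
  rw [h2]
  rfl

end Conv

section Block

variable {G : Type*} [Group G] [Fintype G] {p : ℕ} {M : Ideal AlgInt} [M.IsPrime]

theorem convM_blockCoeff_mul (B : Set (IrrCharacter G)) :
    convM (blockCoeff B) * convM (blockCoeff B) = convM (blockCoeff B) := by
  classical
  ext x y
  have h1 : Blocks.ConvCentral.conv (blockCoeff B) (blockCoeff B) = blockCoeff B := by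
    refine Blocks.MinMax.eq_of_omega (Blocks.ConvCentral.isClassFunction_conv
      (Blocks.MinMax.isClassFunction_blockCoeff B) (Blocks.MinMax.isClassFunction_blockCoeff B))
      (Blocks.MinMax.isClassFunction_blockCoeff B) fun χ hχ => ?_
    have := Blocks.MinMax.omega_blockCoeff B ⟨χ, hχ⟩
    simp only at this
    rw [Blocks.MinMax.omega_conv hχ (Blocks.MinMax.isClassFunction_blockCoeff B), this]
    split_ifs <;> simp
  rw [Matrix.mul_apply, convM_apply]
  conv_rhs => rw [← h1]
  unfold Blocks.ConvCentral.conv
  refine Fintype.sum_equiv (Equiv.mulLeft y⁻¹) _ _ fun z => ?_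
  rw [convM_apply, convM_apply, Equiv.coe_mulLeft, mul_comm]
  congr 2
  group

/-- The dimension of the block algebra over the residue field. -/
theorem rank_convK_idem (hM : IsPModular p M) {B : Set (IrrCharacter G)} (hB : IsUnion M B) :
    (convK (idem M B)).rank = ∑ᶠ χ ∈ B, charDegree (χ : G → ℂ) ^ 2 := by
  classical
  have hfin : Finite (IrrCharacter G) := Characters.Core.finite_irr
  have h1 : convK (idem M B) = (convM (blockCoeff B)).map (redC M) := by
    ext x y
    rfl
  rw [h1, rank_map_redC (convM (blockCoeff B))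
    (fun i j => memLocalRing_blockCoeff hM hB (j⁻¹ * i)) (convM_blockCoeff_mul B)]
  have h2 := rank_eq_trace (convM_blockCoeff_mul B)
  rw [trace_convM, Blocks.Basic.blockCoeff_def, mul_inv_cancel_left₀
    (Nat.cast_ne_zero.mpr Nat.card_pos.ne')] at h2
  have h3 : ∑ᶠ χ ∈ B, (χ : G → ℂ) 1 * (starRingEnd ℂ) ((χ : G → ℂ) 1) =
      ((∑ᶠ χ ∈ B, charDegree (χ : G → ℂ) ^ 2 : ℕ) : ℂ) := by
    have hBfin : B.Finite := Set.toFinite B
    rw [finsum_mem_eq_finite_toFinset_sum _ hBfin, finsum_mem_eq_finite_toFinset_sum _ hBfin]
    push_cast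
    refine Finset.sum_congr rfl fun χ _ => ?_
    rw [Blocks.Knorr.charDegree_eq χ.2, Complex.conj_natCast, pow_two]
  rw [h3] at h2
  exact_mod_cast h2

end Block

end Cfsg.Agent.H646.RankIdem
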