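import Mathlib
import Cfsg.Agent.ClassicalGeometry.TwoFamilies
import Cfsg.Agent.H892.FixDim
import Cfsg.Agent.LieClassical.OrthCore
import Cfsg.Agent.H592.FSSplit
import Cfsg.Agent.S0188
import Cfsg.Agent.CharDeep.PowerDegrees
import Cfsg.Agent.H955.FSDefs
import Cfsg.Agent.LieClassical.OrthForms
import Cfsg.Agent.LieClassical.OrthFinite
import Cfsg.Agent.ClassicalGeometry.OrthDickson
import Cfsg.Agent.Characters.GaloisIrr
import Cfsg.Agent.H955.QElt
set_option linter.all false

-- part: H646/FSFree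
section
/-!
# Isometries inverting an element without fixed vectors

Let `B` be a nondegenerate symmetric bilinear form on `V`, `dim V = 2 n`, `c` an isometry of finite
order prime to the characteristic with `c² v ≠ v` for all `v ≠ 0`, and `h` an isometry with
`h c h⁻¹ = c⁻¹`. Then `dim ker (h - 1) ≡ n` modulo two.
-/

set_option autoImplicit false

namespace Cfsg.Agent.H646.FSFree

open Module

section Closed

variable {K V : Type*} [Field K] [AddCommGroup V] [Module K V]

/-- choose one of `ζ`, `ζ⁻¹` -/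
def Half (ζ : K) : Prop := WellOrderingRel ζ ζ⁻¹

theorem half_or {ζ : K} (h : ζ ≠ ζ⁻¹) : Half ζ ∨ Half ζ⁻¹ := by
  rcases trichotomous_of (WellOrderingRel (α := K)) ζ ζ⁻¹ with h1 | h1 | h1
  · exact Or.inl h1
  · exact absurd h1 h
  · right
    unfold Half
    rwa [inv_inv]

theorem not_half {ζ : K} (h : Half ζ) (h' : Half ζ⁻¹) : False := by
  unfold Half at h h'
  rw [inv_inv] at h'
  exact asymm_of (WellOrderingRel (α := K)) h h'

/-- eigenvectors with eigenvalue in the half -/
def W (c : V ≃ₗ[K] V) : Submodule K V := Submodule.span K {v | ∃ ζ : K, Half ζ ∧ c v = ζ • v}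

/-- eigenvectors with inverse eigenvalue in the half -/
def W' (c : V ≃ₗ[K] V) : Submodule K V := Submodule.span K {v | ∃ ζ : K, Half ζ ∧ c v = ζ⁻¹ • v}

theorem eig_inv {c h : V ≃ₗ[K] V} (hinv : ∀ v, c (h (c v)) = h v) {ζ : K} {v : V}
    (hv : c v = ζ • v) : c (h v) = ζ⁻¹ • h v := by
  rcases eq_or_ne v 0 with rfl | hv0
  · simp
  have hζ : ζ ≠ 0 := by
    rintro rfl
    rw [zero_smul] at hv
    exact hv0 (c.injective (by rw [hv, map_zero]))
  have h1 := hinv v
  rw [hv, map_smul, map_smul] at h1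
  calc c (h v) = ζ⁻¹ • ζ • c (h v) := by rw [smul_smul, inv_mul_cancel₀ hζ, one_smul]
    _ = ζ⁻¹ • h v := by rw [h1]

theorem eig_inv' {c h : V ≃ₗ[K] V} (hinv : ∀ v, c (h (c v)) = h v) {ζ : K} {v : V}
    (hv : c v = ζ • v) : c (h.symm v) = ζ⁻¹ • h.symm v := by
  refine eig_inv (h := h.symm) (fun w => ?_) hv
  apply h.injective
  rw [LinearEquiv.apply_symm_apply]
  have h1 := hinv (c (h.symm (c w)))
  have h2 : c (h (c (h.symm (c w)))) = c w := by
    have := hinv (h.symm (c w))
    rw [LinearEquiv.apply_symm_apply] at this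
    exact this
  have h3 : h (c (h.symm (c w))) = w := c.injective h2
  exact h3

theorem map_W {c h : V ≃ₗ[K] V} (hinv : ∀ v, c (h (c v)) = h v) {v : V} (hv : v ∈ W c) :
    h v ∈ W' c := by
  have h1 : W c ≤ (W' c).comap (h : V →ₗ[K] V) := by
    refine Submodule.span_le.2 ?_
    rintro w ⟨ζ, hζ, hw⟩
    exact Submodule.subset_span ⟨ζ, hζ, eig_inv hinv hw⟩
  exact h1 hv

theorem map_W' {c h : V ≃ₗ[K] V} (hinv : ∀ v, c (h (c v)) = h v) {v : V} (hv : v ∈ W' c) :
    h v ∈ W c := by
  have h1 : W' c ≤ (W c).comap (h : V →ₗ[K] V) := by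
    refine Submodule.span_le.2 ?_
    rintro w ⟨ζ, hζ, hw⟩
    refine Submodule.subset_span ⟨ζ, hζ, ?_⟩
    have := eig_inv hinv hw
    rwa [inv_inv] at this
  exact h1 hv

theorem symm_inv {c h : V ≃ₗ[K] V} (hinv : ∀ v, c (h (c v)) = h v) (v : V) :
    c (h.symm (c v)) = h.symm v := by
  apply h.injective
  rw [LinearEquiv.apply_symm_apply]
  apply c.injective
  have := hinv (h.symm (c v))
  rw [LinearEquiv.apply_symm_apply] at this
  exact this

variable (B : LinearMap.BilinForm K V)

theorem iso_W {c : V ≃ₗ[K] V} (hBc : ∀ x y, B (c x) (c y) = B x y) {x y : V} (hx : x ∈ W c)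
    (hy : y ∈ W c) : B x y = 0 := by
  unfold W at hx hy
  induction hx, hy using Submodule.span_induction₂ with
  | mem_mem x y hx hy =>
    obtain ⟨ζ, hζ, hx⟩ := hx
    obtain ⟨η, hη, hy⟩ := hy
    have h1 := hBc x y
    rw [hx, hy, map_smul, map_smul, LinearMap.smul_apply, smul_eq_mul, smul_eq_mul] at h1
    by_contra hne
    have h2 : η * ζ = 1 := by
      have : (η * ζ) * B x y = 1 * B x y := by rw [one_mul, mul_assoc]; exact h1
      exact mul_right_cancel₀ hne this
    have h3 : η = ζ⁻¹ := eq_inv_of_mul_eq_one_left h2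
    rw [h3] at hη
    exact not_half hζ hη
  | zero_left y hy => simp
  | zero_right x hx => simp
  | add_left x y z _ _ _ h1 h2 => rw [map_add, LinearMap.add_apply, h1, h2, add_zero]
  | add_right x y z _ _ _ h1 h2 => rw [map_add, h1, h2, add_zero]
  | smul_left r x y _ _ h => rw [map_smul, LinearMap.smul_apply, h, smul_zero]
  | smul_right r x y _ _ h => rw [map_smul, h, smul_zero]

theorem iso_W' {c : V ≃ₗ[K] V} (hBc : ∀ x y, B (c x) (c y) = B x y) {x y : V} (hx : x ∈ W' c)
    (hy : y ∈ W' c) : B x y = 0 := by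
  unfold W' at hx hy
  induction hx, hy using Submodule.span_induction₂ with
  | mem_mem x y hx hy =>
    obtain ⟨ζ, hζ, hx⟩ := hx
    obtain ⟨η, hη, hy⟩ := hy
    have h1 := hBc x y
    rw [hx, hy, map_smul, map_smul, LinearMap.smul_apply, smul_eq_mul, smul_eq_mul] at h1
    by_contra hne
    have h2 : η⁻¹ * ζ⁻¹ = 1 := by
      have : (η⁻¹ * ζ⁻¹) * B x y = 1 * B x y := by rw [one_mul, mul_assoc]; exact h1
      exact mul_right_cancel₀ hne this
    have h3 : η⁻¹ = ζ := by
      have := eq_inv_of_mul_eq_one_left h2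
      rwa [inv_inv] at this
    rw [← h3] at hζ
    exact not_half hη hζ
  | zero_left y hy => simp
  | zero_right x hx => simp
  | add_left x y z _ _ _ h1 h2 => rw [map_add, LinearMap.add_apply, h1, h2, add_zero]
  | add_right x y z _ _ _ h1 h2 => rw [map_add, h1, h2, add_zero]
  | smul_left r x y _ _ h => rw [map_smul, LinearMap.smul_apply, h, smul_zero]
  | smul_right r x y _ _ h => rw [map_smul, h, smul_zero]

theorem eig_mem {c : V ≃ₗ[K] V} (hfix : ∀ v, c (c v) = v → v = 0) {ζ : K} {v : V}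
    (hv : c v = ζ • v) : v ∈ W c ⊔ W' c := by
  rcases eq_or_ne v 0 with rfl | hv0
  · exact Submodule.zero_mem _
  have hζ : ζ ≠ 0 := by
    rintro rfl
    rw [zero_smul] at hv
    exact hv0 (c.injective (by rw [hv, map_zero]))
  have hne : ζ ≠ ζ⁻¹ := by
    intro h
    apply hv0
    apply hfix
    rw [hv, map_smul, hv, smul_smul]
    have : ζ * ζ = 1 := by
      nth_rewrite 2 [h]
      exact mul_inv_cancel₀ hζ
    rw [this, one_smul]
  rcases half_or hne with h | h
  · exact Submodule.mem_sup_left (Submodule.subset_span ⟨ζ, h, hv⟩)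
  · refine Submodule.mem_sup_right (Submodule.subset_span ⟨ζ⁻¹, h, ?_⟩)
    rw [inv_inv]
    exact hv

theorem sup_eq_top [FiniteDimensional K V] [IsAlgClosed K] {c : V ≃ₗ[K] V} (hfix : ∀ v, c (c v) = v → v = 0) {m : ℕ}
    (hm : (m : K) ≠ 0) (hc : c ^ m = 1) : W c ⊔ W' c = ⊤ := by
  have hpow : ∀ k : ℕ, ((c : V →ₗ[K] V) : Module.End K V) ^ k = ((c ^ k : V ≃ₗ[K] V) : V →ₗ[K] V) := by
    intro k
    induction k with
    | zero => rfl
    | succ k ih => rw [pow_succ, pow_succ, ih]; rfl
  have h1 : Module.End.IsFinitelySemisimple ((c : V →ₗ[K] V) : Module.End K V) := by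
    refine Module.End.IsSemisimple.isFinitelySemisimple ?_
    refine Module.End.isSemisimple_of_squarefree_aeval_eq_zero
      (p := (Polynomial.X ^ m - Polynomial.C 1 : Polynomial K)) ?_ ?_
    · exact (Polynomial.separable_X_pow_sub_C (1 : K) hm one_ne_zero).squarefree
    · rw [map_sub, map_pow, Polynomial.aeval_X, Polynomial.aeval_C, map_one, hpow, hc]
      exact sub_self _
  rw [eq_top_iff, ← Module.End.iSup_maxGenEigenspace_eq_top ((c : V →ₗ[K] V) : Module.End K V)]
  refine iSup_le fun ζ => ?_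
  intro v hv
  rw [h1.maxGenEigenspace_eq_eigenspace, Module.End.mem_eigenspace_iff] at hv
  exact eig_mem hfix hv

/-- the isomorphism `w ↦ w + h w` from the fixed points of `h²` in `W` to the fixed points of `h` -/
def emb (c h : V ≃ₗ[K] V) (U : Submodule K (W c)) : U →ₗ[K] V :=
  (LinearMap.id + (h : V →ₗ[K] V)) ∘ₗ (W c).subtype ∘ₗ U.subtype

theorem emb_apply (c h : V ≃ₗ[K] V) (U : Submodule K (W c)) (x : U) :
    emb c h U x = (x : V) + h (x : V) := rfl

theorem even_closed [FiniteDimensional K V] [IsAlgClosed K] (hsymm : ∀ x y, B x y = B y x)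
    (hnd : ∀ x, (∀ y, B x y = 0) → x = 0) (c h : V ≃ₗ[K] V) {m : ℕ} (hm : (m : K) ≠ 0)
    (hc : c ^ m = 1) (hfix : ∀ v, c (c v) = v → v = 0) (hBc : ∀ x y, B (c x) (c y) = B x y)
    (hBh : ∀ x y, B (h x) (h y) = B x y) (hinv : ∀ v, c (h (c v)) = h v) {n : ℕ}
    (hn : finrank K V = 2 * n) :
    Even (finrank K (LinearMap.ker ((h : V →ₗ[K] V) - LinearMap.id)) + n) := by
  have hsup := sup_eq_top hfix hm hc
  have hdisj : W c ⊓ W' c = ⊥ := by
    rw [eq_bot_iff]
    rintro x ⟨hx, hx'⟩
    apply hnd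
    intro y
    have hy : y ∈ W c ⊔ W' c := by rw [hsup]; trivial
    obtain ⟨a, ha, b, hb, rfl⟩ := Submodule.mem_sup.1 hy
    rw [map_add, iso_W B hBc hx ha, iso_W' B hBc hx' hb, add_zero]
  have hdim : finrank K (W c) + finrank K (W' c) = 2 * n := by
    have := Submodule.finrank_sup_add_finrank_inf_eq (W c) (W' c)
    rw [hsup, hdisj, finrank_top, finrank_bot, add_zero, hn] at this
    exact this.symm
  have hle : finrank K (W c) ≤ finrank K (W' c) := by
    let φ : W c →ₗ[K] W' c := (h : V →ₗ[K] V).restrict (fun v hv => map_W hinv hv)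
    refine LinearMap.finrank_le_finrank_of_injective (f := φ) ?_
    intro x y hxy
    exact Subtype.ext (h.injective (congrArg Subtype.val hxy))
  have hle' : finrank K (W' c) ≤ finrank K (W c) := by
    let φ : W' c →ₗ[K] W c := (h : V →ₗ[K] V).restrict (fun v hv => map_W' hinv hv)
    refine LinearMap.finrank_le_finrank_of_injective (f := φ) ?_
    intro x y hxy
    exact Subtype.ext (h.injective (congrArg Subtype.val hxy))
  have hW : finrank K (W c) = n := by omega
  -- the alternating form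
  let A : LinearMap.BilinForm K (W c) :=
    (B.compl₁₂ (W c).subtype ((h : V →ₗ[K] V) ∘ₗ (W c).subtype)) -
      (B.compl₁₂ (W c).subtype ((h : V →ₗ[K] V) ∘ₗ (W c).subtype)).flip
  have hA : ∀ x y : W c, A x y = B x (h y) - B y (h x) := fun x y => rfl
  have hAlt : A.IsAlt := fun x => by rw [hA, sub_self]
  obtain ⟨k, hk⟩ := Cfsg.Agent.ClassicalGeometry.TwoFamilies.exists_finrank_eq_ker_add A hAlt
  have hmem : ∀ x : W c, x ∈ LinearMap.ker A ↔ h (h x) = (x : V) := by
    intro x
    rw [LinearMap.mem_ker]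
    constructor
    · intro hx
      have h1 : ∀ y ∈ W c, B (h y) (x - h (h x)) = 0 := by
        intro y hy
        have h2 : A x ⟨y, hy⟩ = 0 := by rw [hx]; rfl
        rw [hA] at h2
        rw [map_sub, hsymm (h y) x, hBh]
        exact h2
      have h2 : ((x : V) - h (h x)) = 0 := by
        apply hnd
        intro y
        rw [hsymm]
        have hy : y ∈ W c ⊔ W' c := by rw [hsup]; trivial
        obtain ⟨a, ha, b, hb, rfl⟩ := Submodule.mem_sup.1 hy
        have h3 : (x : V) - h (h x) ∈ W c := Submodule.sub_mem _ x.2 (map_W' hinv (map_W hinv x.2))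
        have h4 : h.symm b ∈ W c := by
          exact map_W' (h := h.symm) (symm_inv hinv) hb
        have h5 := h1 _ h4
        rw [LinearEquiv.apply_symm_apply] at h5
        rw [map_add, LinearMap.add_apply, iso_W B hBc ha h3, h5, add_zero]
      exact (sub_eq_zero.1 h2).symm
    · intro hx
      ext y
      show A x y = 0
      rw [hA, sub_eq_zero]
      calc B x (h y) = B (h (h x)) (h y) := by rw [hx]
        _ = B (h x) y := hBh _ _
        _ = B y (h x) := hsymm _ _
  have hker : finrank K (LinearMap.ker A) =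
      finrank K (LinearMap.ker ((h : V →ₗ[K] V) - LinearMap.id)) := by
    have hinj : Function.Injective (emb c h (LinearMap.ker A)) := by
      rw [← LinearMap.ker_eq_bot, eq_bot_iff]
      intro x hx
      rw [LinearMap.mem_ker, emb_apply] at hx
      have h1 : ((x : W c) : V) = - h (x : V) := eq_neg_of_add_eq_zero_left hx
      have h2 : ((x : W c) : V) ∈ W c ⊓ W' c := ⟨x.1.2, by
        rw [h1]; exact Submodule.neg_mem _ (map_W hinv x.1.2)⟩
      rw [hdisj, Submodule.mem_bot] at h2
      exact Subtype.ext (Subtype.ext h2)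
    rw [← LinearMap.finrank_range_of_inj hinj]
    have hrange : LinearMap.range (emb c h (LinearMap.ker A)) =
        LinearMap.ker ((h : V →ₗ[K] V) - LinearMap.id) := ?_
    · rw [hrange]
    ext v
    rw [LinearMap.mem_range, LinearMap.mem_ker, LinearMap.sub_apply, sub_eq_zero]
    constructor
    · rintro ⟨x, rfl⟩
      have h1 := (hmem _).1 x.2
      show h (emb c h _ x) = emb c h _ x
      rw [emb_apply, map_add, h1, add_comm]
    · intro hv
      have hv' : h v = v := hv
      have hy : v ∈ W c ⊔ W' c := by rw [hsup]; trivial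
      obtain ⟨a, ha, b, hb, rfl⟩ := Submodule.mem_sup.1 hy
      have h1 : h b - a = b - h a := by
        rw [map_add] at hv'
        have : h b - a = (h a + h b) - a - h a := by abel
        rw [this, hv']
        abel
      have h2 : h b - a ∈ W c ⊓ W' c := ⟨Submodule.sub_mem _ (map_W' hinv hb) ha, by
        rw [h1]; exact Submodule.sub_mem _ hb (map_W hinv ha)⟩
      rw [hdisj, Submodule.mem_bot] at h2
      have h3 : h b = a := sub_eq_zero.1 h2
      have h4 : b = h a := by rw [h2] at h1; exact (sub_eq_zero.1 h1.symm)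
      refine ⟨⟨⟨a, ha⟩, (hmem _).2 (by show h (h a) = a; rw [← h4, h3])⟩, ?_⟩
      rw [emb_apply]
      show a + h a = a + b
      rw [← h4]
  rw [hW, hker] at hk
  rw [hk]
  exact ⟨finrank K (LinearMap.ker ((h : V →ₗ[K] V) - LinearMap.id)) + k, by ring⟩

end Closed

section General

variable {F V : Type*} [Field F] [AddCommGroup V] [Module F V] [FiniteDimensional F V]

open scoped TensorProduct

/-- **Isometries inverting an element without fixed vectors**. -/
theorem even_fix (B : LinearMap.BilinForm F V) (hsymm : ∀ x y, B x y = B y x)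
    (hnd : ∀ x, (∀ y, B x y = 0) → x = 0) (c h : V ≃ₗ[F] V) {m : ℕ} (hm : (m : F) ≠ 0)
    (hc : c ^ m = 1) (hfix : ∀ v, c (c v) = v → v = 0) (hBc : ∀ x y, B (c x) (c y) = B x y)
    (hBh : ∀ x y, B (h x) (h y) = B x y) (hinv : ∀ v, c (h (c v)) = h v) {n : ℕ}
    (hn : finrank F V = 2 * n) :
    Even (finrank F (LinearMap.ker ((h : V →ₗ[F] V) - LinearMap.id)) + n) := by
  let K := AlgebraicClosure F
  let c' : (K ⊗[F] V) ≃ₗ[K] (K ⊗[F] V) := c.baseChange F K V V
  let h' : (K ⊗[F] V) ≃ₗ[K] (K ⊗[F] V) := h.baseChange F K V V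
  let B' : LinearMap.BilinForm K (K ⊗[F] V) := B.baseChange K
  have hc' : ∀ (a : K) (v : V), c' (a ⊗ₜ v) = a ⊗ₜ (c v) := fun a v => rfl
  have hh' : ∀ (a : K) (v : V), h' (a ⊗ₜ v) = a ⊗ₜ (h v) := fun a v => rfl
  have hB' : ∀ (a b : K) (v w : V), B' (a ⊗ₜ v) (b ⊗ₜ w) = B v w • (a * b) :=
    fun a b v w => rfl
  have hiso : ∀ (g : V ≃ₗ[F] V), (∀ x y, B (g x) (g y) = B x y) → ∀ x y : K ⊗[F] V,
      B' (g.baseChange F K V V x) (g.baseChange F K V V y) = B' x y := by
    intro g hg x y
    induction x with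
    | zero => simp
    | add x₁ x₂ h₁ h₂ => rw [map_add, map_add, LinearMap.add_apply, h₁, h₂, map_add,
        LinearMap.add_apply]
    | tmul a v =>
      induction y with
      | zero => simp
      | add y₁ y₂ h₁ h₂ => rw [map_add, map_add, h₁, h₂, map_add]
      | tmul b w =>
        show B (g v) (g w) • (a * b) = B v w • (a * b)
        rw [hg]
  have hsymm' : ∀ x y, B' x y = B' y x := by
    intro x y
    induction x with
    | zero => simp
    | add x₁ x₂ h₁ h₂ => rw [map_add, map_add, LinearMap.add_apply, h₁, h₂]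
    | tmul a v =>
      induction y with
      | zero => simp
      | add y₁ y₂ h₁ h₂ => rw [map_add, map_add, LinearMap.add_apply, h₁, h₂]
      | tmul b w =>
        show B v w • (a * b) = B w v • (b * a)
        rw [hsymm, mul_comm]
  have hnd' : ∀ x, (∀ y, B' x y = 0) → x = 0 := by
    intro x hx
    have hBn : B.Nondegenerate := ⟨hnd, fun y hy => hnd y fun x => by rw [hsymm]; exact hy x⟩
    let b := Module.finBasis F V
    let d := B.dualBasis hBn b
    have hd : ∀ i j, B (b i) (d j) = if i = j then 1 else 0 := by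
      intro i j
      rw [hsymm]
      exact LinearMap.BilinForm.apply_dualBasis_left hBn b j i
    let b' := Algebra.TensorProduct.basis K b
    have hb' : ∀ i, b' i = 1 ⊗ₜ b i := fun i => Algebra.TensorProduct.basis_apply b i
    have h1 : ∀ j, b'.repr x j = 0 := by
      intro j
      have h2 := hx (1 ⊗ₜ d j)
      rw [← b'.sum_repr x, map_sum, LinearMap.sum_apply, Finset.sum_eq_single j] at h2
      · rw [map_smul, LinearMap.smul_apply, hb', hB', hd, if_pos rfl, one_smul, mul_one,
          smul_eq_mul, mul_one] at h2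
        exact h2
      · intro i _ hij
        rw [map_smul, LinearMap.smul_apply, hb', hB', hd, if_neg hij, zero_smul, smul_zero]
      · intro h
        exact absurd (Finset.mem_univ j) h
    rw [← b'.sum_repr x]
    exact Finset.sum_eq_zero fun j _ => by rw [h1, zero_smul]
  have hfix' : ∀ v, c' (c' v) = v → v = 0 := by
    intro v hv
    have h1 := H892.FixDim.fx_baseChange K ((c : V →ₗ[F] V) ∘ₗ (c : V →ₗ[F] V))
    have h2 : H892.FixDim.fx ((c : V →ₗ[F] V) ∘ₗ (c : V →ₗ[F] V)) = 0 := by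
      rw [H892.FixDim.fx]
      have : LinearMap.ker ((c : V →ₗ[F] V) ∘ₗ (c : V →ₗ[F] V) - 1) = ⊥ := by
        rw [eq_bot_iff]
        intro w hw
        rw [H892.FixDim.mem_ker_sub_one] at hw
        exact hfix w hw
      rw [this, finrank_bot]
    rw [h2, H892.FixDim.fx, Submodule.finrank_eq_zero] at h1
    have h3 : v ∈ LinearMap.ker (((c : V →ₗ[F] V) ∘ₗ (c : V →ₗ[F] V)).baseChange K - 1) := by
      rw [H892.FixDim.mem_ker_sub_one, LinearMap.baseChange_comp]
      exact hv
    rw [h1, Submodule.mem_bot] at h3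
    exact h3
  have hc'm : c' ^ m = 1 := by
    have h1 : ∀ k : ℕ, ∀ (a : K) (v : V), (c' ^ k) (a ⊗ₜ v) = a ⊗ₜ ((c ^ k) v) := by
      intro k
      induction k with
      | zero => intro a v; rfl
      | succ k ih => intro a v; rw [pow_succ, pow_succ]; exact ih a (c v)
    apply LinearEquiv.ext
    intro x
    induction x with
    | zero => simp
    | add x y hx hy => rw [map_add, map_add, hx, hy]
    | tmul a v => rw [h1, hc]; rfl
  have hinv' : ∀ v, c' (h' (c' v)) = h' v := by
    intro x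
    induction x with
    | zero => simp
    | add x y hx hy => rw [map_add, map_add, map_add, map_add, hx, hy]
    | tmul a v => rw [hc', hh', hc', hinv, hh']
  have hn' : finrank K (K ⊗[F] V) = 2 * n := by rw [Module.finrank_baseChange, hn]
  have hm' : (m : K) ≠ 0 := by
    intro h0
    apply hm
    have : algebraMap F K (m : F) = 0 := by rw [map_natCast]; exact h0
    exact (map_eq_zero _).1 this
  have key := even_closed B' hsymm' hnd' c' h' hm' hc'm hfix' (hiso c hBc) (hiso h hBh) hinv' hn'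
  have h1 := H892.FixDim.fx_baseChange K (h : V →ₗ[F] V)
  have h2 : finrank K (LinearMap.ker ((h' : (K ⊗[F] V) →ₗ[K] (K ⊗[F] V)) - LinearMap.id)) =
      finrank F (LinearMap.ker ((h : V →ₗ[F] V) - LinearMap.id)) := h1
  rwa [h2] at key

end General

end Cfsg.Agent.H646.FSFree
end

-- part: H646/FSGlue
section
/-!
# Inverting isometries with a prescribed Dickson invariant

`fxd h = dim ker (h - 1)`.  If every isometry of `2`-power order is inverted by one with
`fxd ≡ n` (`dim V = 2 n`) and every isometry is inverted by an isometry, then every isometry is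
inverted by one with `fxd ≡ n` modulo two.
-/

set_option autoImplicit false

namespace Cfsg.Agent.H646.FSGlue

open Module QuadraticMap
open Cfsg.Agent.LieClassical.OrthCore

variable {F V : Type*} [Field F] [AddCommGroup V] [Module F V]

/-- the dimension of the fixed space -/
noncomputable def fxd (h : V ≃ₗ[F] V) : ℕ :=
  finrank F (LinearMap.ker ((h : V →ₗ[F] V) - LinearMap.id))

theorem mem_ker_sub_id {h : V ≃ₗ[F] V} {v : V} :
    v ∈ LinearMap.ker ((h : V →ₗ[F] V) - LinearMap.id) ↔ h v = v := by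
  rw [LinearMap.mem_ker, LinearMap.sub_apply, sub_eq_zero]
  rfl

/-- restriction to an invariant subspace -/
def restr (g : V ≃ₗ[F] V) (W : Submodule F V) (h : ∀ v ∈ W, g v ∈ W)
    (h' : ∀ v ∈ W, g.symm v ∈ W) : W ≃ₗ[F] W :=
  LinearEquiv.ofLinearMap ((g : V →ₗ[F] V).restrict h) ((g.symm : V →ₗ[F] V).restrict h')
    (by
      ext v
      exact g.apply_symm_apply _)
    (by
      ext v
      exact g.symm_apply_apply _)

theorem restr_apply (g : V ≃ₗ[F] V) (W : Submodule F V) (h : ∀ v ∈ W, g v ∈ W)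
    (h' : ∀ v ∈ W, g.symm v ∈ W) (v : W) : ((restr g W h h' v : W) : V) = g v := rfl

section Glue

variable {W₀ W₁ : Submodule F V} (hc : IsCompl W₀ W₁)

/-- gluing of two automorphisms -/
noncomputable def glue (h₀ : W₀ ≃ₗ[F] W₀) (h₁ : W₁ ≃ₗ[F] W₁) : V ≃ₗ[F] V :=
  ((Submodule.prodEquivOfIsCompl W₀ W₁ hc).symm.trans (h₀.prodCongr h₁)).trans
    (Submodule.prodEquivOfIsCompl W₀ W₁ hc)

theorem glue_add (h₀ : W₀ ≃ₗ[F] W₀) (h₁ : W₁ ≃ₗ[F] W₁) (x : W₀) (y : W₁) :
    glue hc h₀ h₁ ((x : V) + y) = (h₀ x : V) + h₁ y := by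
  have h1 : (Submodule.prodEquivOfIsCompl W₀ W₁ hc).symm ((x : V) + y) = (x, y) := by
    rw [LinearEquiv.symm_apply_eq]
    rfl
  unfold glue
  rw [LinearEquiv.trans_apply, LinearEquiv.trans_apply, h1]
  rfl

include hc in
theorem exists_eq_add (v : V) : ∃ (x : W₀) (y : W₁), v = (x : V) + y := by
  have h1 : v ∈ W₀ ⊔ W₁ := by rw [hc.sup_eq_top]; trivial
  obtain ⟨x, hx, y, hy, rfl⟩ := Submodule.mem_sup.1 h1
  exact ⟨⟨x, hx⟩, ⟨y, hy⟩, rfl⟩

theorem finrank_ker_prod {A B : Type*} [AddCommGroup A] [Module F A] [AddCommGroup B] [Module F B]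
    [FiniteDimensional F A] [FiniteDimensional F B] (f : A →ₗ[F] A) (g : B →ₗ[F] B) :
    finrank F (LinearMap.ker (f.prodMap g)) = finrank F (LinearMap.ker f) + finrank F (LinearMap.ker g) := by
  rw [← Module.finrank_prod]
  refine LinearEquiv.finrank_eq ?_
  exact
    { toFun := fun x => (⟨x.1.1, congrArg Prod.fst x.2⟩, ⟨x.1.2, congrArg Prod.snd x.2⟩)
      map_add' := fun x y => rfl
      map_smul' := fun r x => rfl
      invFun := fun x => ⟨(x.1.1, x.2.1), Prod.ext x.1.2 x.2.2⟩
      left_inv := fun x => rfl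
      right_inv := fun x => rfl }

theorem fxd_glue [FiniteDimensional F V] (h₀ : W₀ ≃ₗ[F] W₀) (h₁ : W₁ ≃ₗ[F] W₁) :
    fxd (glue hc h₀ h₁) = fxd h₀ + fxd h₁ := by
  unfold fxd
  rw [← finrank_ker_prod]
  refine LinearEquiv.finrank_eq ?_
  refine (LinearEquiv.ofSubmodules (Submodule.prodEquivOfIsCompl W₀ W₁ hc) _ _ ?_).symm
  ext v
  rw [Submodule.mem_map, mem_ker_sub_id]
  constructor
  · rintro ⟨⟨x, y⟩, hxy, rfl⟩
    rw [LinearMap.ker_prodMap, Submodule.mem_prod, mem_ker_sub_id, mem_ker_sub_id] at hxy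
    show glue hc h₀ h₁ ((x : V) + y) = (x : V) + y
    rw [glue_add, hxy.1, hxy.2]
  · intro hv
    obtain ⟨x, y, rfl⟩ := exists_eq_add hc v
    refine ⟨(x, y), ?_, rfl⟩
    rw [glue_add] at hv
    have h1 : Submodule.prodEquivOfIsCompl W₀ W₁ hc (h₀ x, h₁ y) =
        Submodule.prodEquivOfIsCompl W₀ W₁ hc (x, y) := hv
    have h2 := (Submodule.prodEquivOfIsCompl W₀ W₁ hc).injective h1
    rw [LinearMap.ker_prodMap, Submodule.mem_prod, mem_ker_sub_id, mem_ker_sub_id]
    exact ⟨congrArg Prod.fst h2, congrArg Prod.snd h2⟩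

end Glue

/-! ### Powers and conjugation -/

theorem apply_pow_mem {g : V ≃ₗ[F] V} {W : Submodule F V} (h : ∀ v ∈ W, g v ∈ W) (k : ℕ) :
    ∀ v ∈ W, (g ^ k) v ∈ W := by
  induction k with
  | zero => intro v hv; exact hv
  | succ k ih => intro v hv; rw [pow_succ]; exact ih _ (h v hv)

theorem restr_pow (g : V ≃ₗ[F] V) (W : Submodule F V) (h : ∀ v ∈ W, g v ∈ W)
    (h' : ∀ v ∈ W, g.symm v ∈ W) (k : ℕ) (v : W) :
    (((restr g W h h') ^ k) v : V) = (g ^ k) v := by
  induction k generalizing v with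
  | zero => rfl
  | succ k ih =>
    rw [pow_succ, pow_succ]
    exact ih (restr g W h h' v)

variable (Q : QuadraticForm F V)

/-- the restriction of a quadratic form to a subspace -/
def qr (W : Submodule F V) : QuadraticForm F W := Q.comp W.subtype

theorem qr_apply (W : Submodule F V) (x : W) : qr Q W x = Q x := rfl

theorem polar_qr (W : Submodule F V) (x y : W) : polar (qr Q W) x y = polar Q x y := rfl

variable {Q}

theorem nondeg_qr (hQ : Nondeg Q) {W₀ W₁ : Submodule F V} (hc : IsCompl W₀ W₁)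
    (hort : ∀ x ∈ W₀, ∀ y ∈ W₁, polar Q x y = 0) : Nondeg (qr Q W₀) := by
  intro x hx
  apply Subtype.ext
  apply hQ
  intro v
  obtain ⟨a, b, rfl⟩ := exists_eq_add hc v
  rw [QuadraticMap.polar_add_right, hort x x.2 b b.2, add_zero]
  exact hx a

theorem restr_mem_O {g : V ≃ₗ[F] V} (hg : g ∈ O Q) {W : Submodule F V} (h : ∀ v ∈ W, g v ∈ W)
    (h' : ∀ v ∈ W, g.symm v ∈ W) : restr g W h h' ∈ O (qr Q W) := fun v => hg v

theorem glue_mem_O {W₀ W₁ : Submodule F V} (hc : IsCompl W₀ W₁)
    (hort : ∀ x ∈ W₀, ∀ y ∈ W₁, polar Q x y = 0) {h₀ : W₀ ≃ₗ[F] W₀} {h₁ : W₁ ≃ₗ[F] W₁}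
    (h0 : h₀ ∈ O (qr Q W₀)) (h1 : h₁ ∈ O (qr Q W₁)) : glue hc h₀ h₁ ∈ O Q := by
  intro v
  obtain ⟨x, y, rfl⟩ := exists_eq_add hc v
  rw [glue_add, Q_add, Q_add, hort x x.2 y y.2, hort _ (h₀ x).2 _ (h₁ y).2]
  have e0 := h0 x
  have e1 := h1 y
  rw [qr_apply, qr_apply] at e0 e1
  rw [e0, e1]

/-- conjugation, elementwise: `h g h⁻¹ = g⁻¹` iff `g (h (g v)) = h v` -/
theorem conj_iff {g h : V ≃ₗ[F] V} : h * g * h⁻¹ = g⁻¹ ↔ ∀ v, g (h (g v)) = h v := by
  constructor
  · intro e v
    have h1 : g * h * g = h := by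
      have : h * g = g⁻¹ * h := by rw [← e]; group
      calc g * h * g = g * (h * g) := by group
        _ = g * (g⁻¹ * h) := by rw [this]
        _ = h := by group
    exact LinearEquiv.congr_fun h1 v
  · intro e
    have h1 : g * h * g = h := LinearEquiv.ext e
    calc h * g * h⁻¹ = g⁻¹ * (g * h * g) * h⁻¹ := by group
      _ = g⁻¹ := by rw [h1]; group

theorem inv_pow_of {g h : V ≃ₗ[F] V} (e : h * g * h⁻¹ = g⁻¹) (k : ℕ) :
    h * g ^ k * h⁻¹ = (g ^ k)⁻¹ := by
  rw [← conj_pow, e, inv_pow]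

section Split

variable [FiniteDimensional F V]

/-- the fixed space of an element of finite order prime to the characteristic has an invariant
complement -/
theorem isCompl_ker_range (c : V ≃ₗ[F] V) {m : ℕ} (hm : (m : F) ≠ 0) (hc : c ^ m = 1) :
    IsCompl (LinearMap.ker ((c : V →ₗ[F] V) - LinearMap.id))
      (LinearMap.range ((c : V →ₗ[F] V) - LinearMap.id)) := by
  have hdim := LinearMap.finrank_range_add_finrank_ker ((c : V →ₗ[F] V) - LinearMap.id)
  rw [Submodule.isCompl_iff_disjoint _ _ (by omega), Submodule.disjoint_def]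
  rintro v hv ⟨w, hw⟩
  rw [mem_ker_sub_id] at hv
  have hw' : c w = w + v := by
    rw [← hw]
    show c w = w + (c w - w)
    abel
  have h1 : ∀ k : ℕ, (c ^ k) w = w + k • v := by
    intro k
    induction k with
    | zero => simp
    | succ k ih =>
      rw [pow_succ']
      show c ((c ^ k) w) = _
      rw [ih, map_add, map_nsmul, hw', hv, succ_nsmul]
      abel
  have h2 := h1 m
  rw [hc] at h2
  have h3 : m • v = 0 := by
    have : w = w + m • v := h2
    exact left_eq_add.1 this
  rw [← Nat.cast_smul_eq_nsmul F] at h3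
  exact (smul_eq_zero.1 h3).resolve_left hm

omit [FiniteDimensional F V] in
theorem polar_ker_range {c : V ≃ₗ[F] V} (hcQ : c ∈ O Q) {x y : V}
    (hx : x ∈ LinearMap.ker ((c : V →ₗ[F] V) - LinearMap.id))
    (hy : y ∈ LinearMap.range ((c : V →ₗ[F] V) - LinearMap.id)) : polar Q x y = 0 := by
  obtain ⟨w, rfl⟩ := hy
  rw [mem_ker_sub_id] at hx
  show polar Q x (c w - w) = 0
  rw [QuadraticMap.polar_sub_right]
  nth_rewrite 1 [← hx]
  rw [polar_map hcQ, sub_self]

theorem even_finrank_of_nondeg [CharP F 2] (hQ : Nondeg Q) : ∃ n : ℕ, finrank F V = 2 * n := by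
  obtain ⟨m, hm⟩ := Cfsg.Agent.ClassicalGeometry.TwoFamilies.exists_finrank_eq_ker_add
    (polarBilin Q) (fun x => by
      show polar Q x x = 0
      rw [polar_self', CharTwo.two_eq_zero, zero_mul])
  have hker : LinearMap.ker (polarBilin Q) = ⊥ := by
    rw [eq_bot_iff]
    intro x hx
    rw [LinearMap.mem_ker] at hx
    exact hQ x fun y => LinearMap.congr_fun hx y
  rw [hker, finrank_bot, zero_add] at hm
  exact ⟨m, by rw [hm]; ring⟩

/-- **Inverting isometries with the right Dickson invariant** -/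
theorem exists_inv [Finite F] [CharP F 2] (hQ : Nondeg Q) {n : ℕ} (hn : finrank F V = 2 * n)
    (huni : ∀ (W : Submodule F V) (n₀ : ℕ), Nondeg (qr Q W) → finrank F W = 2 * n₀ →
      ∀ p ∈ O (qr Q W), ∀ a : ℕ, p ^ 2 ^ a = 1 →
      ∃ h ∈ O (qr Q W), h * p * h⁻¹ = p⁻¹ ∧ Even (fxd h + n₀))
    (hreal : ∀ (W : Submodule F V), Nondeg (qr Q W) → ∀ g ∈ O (qr Q W),
      ∃ h ∈ O (qr Q W), h * g * h⁻¹ = g⁻¹)
    {g : V ≃ₗ[F] V} (hg : g ∈ O Q) :
    ∃ h ∈ O Q, h * g * h⁻¹ = g⁻¹ ∧ Even (fxd h + n) := by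
  have hfinV : Finite V := Module.finite_of_finite F
  have hfinE : Finite (V ≃ₗ[F] V) :=
    Finite.of_injective (fun e : V ≃ₗ[F] V => (e : V → V)) DFunLike.coe_injective
  have hN : orderOf g ≠ 0 := (orderOf_pos g).ne'
  obtain ⟨a, m, hmodd, hNm⟩ := Nat.exists_eq_two_pow_mul_odd hN
  set c := g ^ 2 ^ a with hcdef
  have hcm : c ^ m = 1 := by rw [hcdef, ← pow_mul, ← hNm, pow_orderOf_eq_one]
  have hmF : (m : F) ≠ 0 := by
    intro h0
    rw [CharP.cast_eq_zero_iff F 2] at h0
    exact (Nat.not_even_iff_odd.2 hmodd) (even_iff_two_dvd.2 h0)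
  have hcO : c ∈ O Q := Subgroup.pow_mem _ hg _
  have hcomm : ∀ v, g (c v) = c (g v) := by
    intro v
    have : g * c = c * g := by rw [hcdef, ← pow_succ, ← pow_succ']
    exact LinearEquiv.congr_fun this v
  have hcomm' : ∀ v, g.symm (c v) = c (g.symm v) := by
    intro v
    rw [LinearEquiv.symm_apply_eq, hcomm, LinearEquiv.apply_symm_apply]
  set W₀ := LinearMap.ker ((c : V →ₗ[F] V) - LinearMap.id) with hW₀
  set W₁ := LinearMap.range ((c : V →ₗ[F] V) - LinearMap.id) with hW₁
  have hcompl : IsCompl W₀ W₁ := isCompl_ker_range c hmF hcm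
  have hort : ∀ x ∈ W₀, ∀ y ∈ W₁, polar Q x y = 0 := fun x hx y hy => polar_ker_range hcO hx hy
  have hort' : ∀ x ∈ W₁, ∀ y ∈ W₀, polar Q x y = 0 := fun x hx y hy => by
    rw [polar_comm]; exact hort y hy x hx
  have hg0 : ∀ v ∈ W₀, g v ∈ W₀ := by
    intro v hv
    rw [hW₀, mem_ker_sub_id] at hv ⊢
    rw [← hcomm, hv]
  have hg0' : ∀ v ∈ W₀, g.symm v ∈ W₀ := by
    intro v hv
    rw [hW₀, mem_ker_sub_id] at hv ⊢
    rw [← hcomm', hv]
  have hg1 : ∀ v ∈ W₁, g v ∈ W₁ := by
    rintro v ⟨w, rfl⟩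
    refine ⟨g w, ?_⟩
    show c (g w) - g w = g (c w - w)
    rw [map_sub, hcomm]
  have hg1' : ∀ v ∈ W₁, g.symm v ∈ W₁ := by
    rintro v ⟨w, rfl⟩
    refine ⟨g.symm w, ?_⟩
    show c (g.symm w) - g.symm w = g.symm (c w - w)
    rw [map_sub, hcomm']
  set g₀ := restr g W₀ hg0 hg0' with hg₀
  set g₁ := restr g W₁ hg1 hg1' with hg₁
  have hQ0 : Nondeg (qr Q W₀) := nondeg_qr hQ hcompl hort
  have hQ1 : Nondeg (qr Q W₁) := nondeg_qr hQ hcompl.symm hort'
  obtain ⟨n₀, hn₀⟩ := even_finrank_of_nondeg hQ0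
  obtain ⟨n₁, hn₁⟩ := even_finrank_of_nondeg hQ1
  have hnn : n = n₀ + n₁ := by
    have := Submodule.finrank_add_eq_of_isCompl hcompl
    omega
  obtain ⟨h₀, h0O, h0inv, h0D⟩ := huni W₀ n₀ hQ0 hn₀ g₀ (restr_mem_O hg hg0 hg0') a (by
    apply LinearEquiv.ext
    intro v
    apply Subtype.ext
    rw [restr_pow]
    have hv : c (v : V) = v := mem_ker_sub_id.1 v.2
    exact hv)
  obtain ⟨h₁, h1O, h1inv⟩ := hreal W₁ hQ1 g₁ (restr_mem_O hg hg1 hg1')
  have h1D : Even (fxd h₁ + n₁) := by
    have hpow := inv_pow_of h1inv (2 ^ a)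
    have hval : ∀ v : W₁, (((g₁ ^ 2 ^ a) v : W₁) : V) = c v := fun v => restr_pow g W₁ hg1 hg1' _ v
    refine FSFree.even_fix (polarBilin (qr Q W₁)) (fun x y => polar_comm _ _ _)
      (fun x hx => hQ1 x hx) (g₁ ^ 2 ^ a) h₁ hmF ?_ ?_ ?_ ?_ (conj_iff.1 hpow) hn₁
    · rw [← pow_mul, ← hNm]
      apply LinearEquiv.ext
      intro v
      apply Subtype.ext
      rw [restr_pow, pow_orderOf_eq_one]
      rfl
    · intro v hv
      -- `c² v = v`, `c` of odd order
      have h1 : c (c v) = v := by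
        have h2 := congrArg Subtype.val hv
        rw [hval, hval] at h2
        exact h2
      have h3 : ∀ k : ℕ, (c ^ (2 * k)) (v : V) = v := by
        intro k
        induction k with
        | zero => rfl
        | succ k ih =>
          rw [mul_add, pow_add]
          show (c ^ (2 * k)) ((c ^ (2 * 1)) (v : V)) = v
          have : (c ^ (2 * 1)) (v : V) = v := h1
          rw [this, ih]
      obtain ⟨k, hk⟩ := hmodd
      have h4 : c v = v := by
        have h5 : (c ^ m) (v : V) = c (v : V) := by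
          rw [hk, pow_succ']
          show c ((c ^ (2 * k)) (v : V)) = c v
          rw [h3]
        rw [← h5, hcm]
        rfl
      have h5 : (v : V) ∈ W₀ ⊓ W₁ := ⟨mem_ker_sub_id.2 h4, v.2⟩
      rw [hcompl.inf_eq_bot, Submodule.mem_bot] at h5
      exact Subtype.ext h5
    · intro x y
      exact polar_map (Subgroup.pow_mem _ (restr_mem_O hg hg1 hg1') _) x y
    · intro x y
      exact polar_map h1O x y
  refine ⟨glue hcompl h₀ h₁, glue_mem_O hcompl hort h0O h1O, ?_, ?_⟩
  · rw [conj_iff]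
    intro v
    obtain ⟨x, y, rfl⟩ := exists_eq_add hcompl v
    have e0 := conj_iff.1 h0inv x
    have e1 := conj_iff.1 h1inv y
    have e2 : g ((x : V) + y) = (g₀ x : V) + g₁ y := map_add g _ _
    rw [e2, glue_add, map_add, glue_add]
    have e3 : g (h₀ (g₀ x) : V) = (h₀ x : V) := congrArg Subtype.val e0
    have e4 : g (h₁ (g₁ y) : V) = (h₁ y : V) := congrArg Subtype.val e1
    rw [e3, e4]
  · rw [fxd_glue, hnn]
    have : fxd h₀ + fxd h₁ + (n₀ + n₁) = (fxd h₀ + n₀) + (fxd h₁ + n₁) := by ring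
    rw [this]
    exact h0D.add h1D

end Split

end Cfsg.Agent.H646.FSGlue
end

-- part: H646/FSIndexTwo
section
/-!
# Indicators of subgroups of index two

If all irreducible characters of `G` have indicator `1`, `H` has index two in `G` and all elements of
`H` are real in `H`, then all irreducible characters of `H` have indicator `1`.
-/

set_option autoImplicit false

namespace Cfsg.Agent.H646.FSIndexTwo

open Cfsg Cfsg.Agent.Characters.Core Cfsg.Agent.H592.FSPar
open scoped ComplexConjugate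

theorem fs_outer {G : Type*} [Group G] [Finite G] {H : Type*} [Group H] [Finite H]
    (φ : G → ℂ) (ψ : H → ℂ) : fs (fun x : G × H => φ x.1 * ψ x.2) = fs φ * fs ψ := by
  have := Fintype.ofFinite G
  have := Fintype.ofFinite H
  rw [fs_eq_sum, fs_eq_sum, fs_eq_sum, Nat.card_prod, Fintype.sum_prod_type]
  have h1 : ∀ g : G, ∑ h : H, φ ((g, h) * (g, h)).1 * ψ ((g, h) * (g, h)).2 =
      φ (g * g) * ∑ h : H, ψ (h * h) := by
    intro g
    rw [Finset.mul_sum]
    rfl
  rw [Finset.sum_congr rfl fun g _ => h1 g, ← Finset.sum_mul]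
  push_cast
  rw [mul_inv]
  ring

/-- A real constituent of multiplicity one of the restriction of a character of indicator one has
indicator one. -/
theorem fs_eq_one_of_mult_one {G : Type*} [Group G] [Fintype G] {H : Type*} [Group H] [Fintype H]
    (f : H →* G) {χ : G → ℂ} (hχ : IsIrrCharacter G χ) (hχ1 : fs χ = 1)
    {ψ : H → ℂ} (hψ : IsIrrCharacter H ψ) (hreal : ∀ h, (ψ h).im = 0)
    (hmult : classInner (fun h => χ (f h)) ψ = 1) : fs ψ = 1 := by
  rcases (fs_irr hψ).1 with h | h | h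
  · obtain ⟨s, hs⟩ := (fs_irr hψ).2.1 h
    exact absurd (hreal s) hs
  · exact h
  exfalso
  have h1 : fs (fun x : G × H => χ x.1 * ψ x.2) = -1 := by rw [fs_outer, hχ1, h, one_mul]
  have h2 := Cfsg.Agent.S0188.isIrr_outer hχ hψ
  have h3 : fs (1 : H → ℂ) = 1 := by
    rw [fs_eq_sum]
    simp
  obtain ⟨k, hk⟩ := even_mult (f.prod (MonoidHom.id H)) h2 h1 (isIrr_one (G := H)) h3
  have h4 : classInner (fun h => χ (f h)) ψ =
      classInner (fun h => (fun x : G × H => χ x.1 * ψ x.2) (f.prod (MonoidHom.id H) h)) 1 := by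
    rw [classInner_def, classInner_def]
    congr 1
    refine Finset.sum_congr rfl fun g _ => ?_
    rw [Complex.conj_eq_iff_im.2 (hreal g)]
    simp
  rw [← h4, hmult] at hk
  have h5 : (1 : ℕ) = 2 * k := by exact_mod_cast hk
  omega

theorem inner_restrict_le {G : Type*} [Group G] [Fintype G] (H : Subgroup G) [Fintype H]
    {χ : G → ℂ} (hχ : IsIrrCharacter G χ) :
    (classInner (fun h : H => χ h) (fun h : H => χ h)).re ≤ H.index := by
  have h1 := classInner_irr_self hχ
  rw [classInner_def] at h1 ⊢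
  have hn : ∀ z : ℂ, z * conj z = ((Complex.normSq z : ℝ) : ℂ) := Complex.mul_conj
  have h2 : ∑ g : G, Complex.normSq (χ g) = (Nat.card G : ℝ) := by
    have h3 : (Nat.card G : ℂ) ≠ 0 := Nat.cast_ne_zero.2 Nat.card_pos.ne'
    have h4 : ∑ g : G, χ g * conj (χ g) = (Nat.card G : ℂ) := by
      field_simp at h1
      exact h1
    rw [Finset.sum_congr rfl fun g _ => hn (χ g), ← Complex.ofReal_sum] at h4
    exact_mod_cast h4
  have h5 : ∑ h : H, Complex.normSq (χ h) ≤ (Nat.card G : ℝ) := by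
    rw [← h2]
    calc ∑ h : H, Complex.normSq (χ h) = ∑ g ∈ Finset.univ.map ⟨(Subtype.val : H → G), Subtype.val_injective⟩,
        Complex.normSq (χ g) := by rw [Finset.sum_map]; rfl
      _ ≤ ∑ g : G, Complex.normSq (χ g) :=
        Finset.sum_le_sum_of_subset_of_nonneg (Finset.subset_univ _)
          fun _ _ _ => Complex.normSq_nonneg _
  rw [Finset.sum_congr rfl fun (g : H) _ => hn (χ g), ← Complex.ofReal_sum]
  have h6 : ((Nat.card H : ℂ)⁻¹ * ((∑ h : H, Complex.normSq (χ h) : ℝ) : ℂ)).re =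
      (Nat.card H : ℝ)⁻¹ * ∑ h : H, Complex.normSq (χ h) := by
    rw [← Complex.ofReal_natCast, ← Complex.ofReal_inv, ← Complex.ofReal_mul, Complex.ofReal_re]
  rw [h6]
  have h7 : (0 : ℝ) < Nat.card H := by exact_mod_cast Nat.card_pos
  rw [inv_mul_le_iff₀ h7]
  refine h5.trans (le_of_eq ?_)
  rw [← H.card_mul_index]
  push_cast
  ring

/-- In a group of index two each multiplicity is at most one. -/
theorem mult_le_one {G : Type*} [Group G] [Fintype G] (H : Subgroup G) [Fintype H]
    (hH : H.index = 2) {χ : G → ℂ} (hχ : IsIrrCharacter G χ) {ψ : H → ℂ} (hψ : IsIrrCharacter H ψ)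
    (hne : classInner (fun h : H => χ h) ψ ≠ 0) : classInner (fun h : H => χ h) ψ = 1 := by
  classical
  have := finite_irr (G := H)
  have := Fintype.ofFinite (IrrCharacter H)
  have hres : IsCharacter H (fun h : H => χ h) := isCharacter_comp H.subtype (isIrr_isCharacter hχ)
  have h1 := classInner_eq_sum (isCharacter_isClassFunction hres) (isCharacter_isClassFunction hres)
  obtain ⟨k, hk⟩ := classInner_isNat hres (isIrr_isCharacter hψ)
  have h2 := inner_restrict_le H hχ
  rw [h1, hH, Complex.re_sum] at h2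
  have h3 : (k : ℝ) ^ 2 ≤ 2 := by
    refine le_trans ?_ h2
    refine le_trans (le_of_eq ?_) (Finset.single_le_sum (fun φ _ => ?_)
      (Finset.mem_univ (⟨ψ, hψ⟩ : IrrCharacter H)))
    · show (k : ℝ) ^ 2 = (classInner (fun h : H => χ h) ψ *
        conj (classInner (fun h : H => χ h) ψ)).re
      rw [hk, Complex.conj_natCast, ← Nat.cast_mul, Complex.natCast_re]
      push_cast
      ring
    · rw [Complex.mul_conj, Complex.ofReal_re]
      exact Complex.normSq_nonneg _
  have h4 : k ^ 2 ≤ 2 := by exact_mod_cast h3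
  have h5 : k ≠ 0 := by
    rintro rfl
    rw [Nat.cast_zero] at hk
    exact hne hk
  have h6 : k = 1 := by
    have : k < 2 := by
      by_contra h
      push Not at h
      have := Nat.pow_le_pow_left h 2
      omega
    omega
  rw [hk, h6, Nat.cast_one]

/-- **Indicators and subgroups of index two.** -/
theorem fs_index_two {G : Type*} [Group G] [Finite G] (H : Subgroup G) (hH : H.index = 2)
    (hG : ∀ χ : G → ℂ, IsIrrCharacter G χ → fs χ = 1) (hreal : ∀ h : H, IsConj h h⁻¹)
    {ψ : H → ℂ} (hψ : IsIrrCharacter H ψ) : fs ψ = 1 := by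
  have := Fintype.ofFinite G
  have := Fintype.ofFinite H
  obtain ⟨χ, hχ, hne⟩ := Cfsg.Agent.CharDeep.PowerDegrees.exists_irr_over H hψ
  refine fs_eq_one_of_mult_one H.subtype hχ (hG χ hχ) hψ ?_ (mult_le_one H hH hχ hψ hne)
  intro h
  have h1 : ψ h = ψ h⁻¹ := by
    obtain ⟨x, hx⟩ := isConj_iff.1 (hreal h)
    rw [← hx]
    exact (isIrr_isClassFunction hψ h x).symm
  rw [isCharacter_apply_inv (isIrr_isCharacter hψ)] at h1
  exact Complex.conj_eq_iff_im.1 h1.symm

end Cfsg.Agent.H646.FSIndexTwo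
end

-- part: H646/FSOmega
section
/-!
# Indicators of the commutator subgroups of orthogonal groups in dimension `4 m`, characteristic two
-/

set_option autoImplicit false
set_option linter.unusedSectionVars false

universe u

namespace Cfsg.Agent.H646.FSOmega

open Cfsg QuadraticMap Module
open Cfsg.Agent.LieClassical.OrthCore Cfsg.Agent.LieClassical.OrthForms
open Cfsg.Agent.LieClassical.OrthFinite
open Cfsg.Agent.H592.FSPar Cfsg.Agent.H646.FSGlue Cfsg.Agent.H646.FSIndexTwo
open Cfsg.Agent.H955.FS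
open Cfsg.Agent.Characters.Core

theorem fs_eq_one {G : Type u} [Group G] (h : FSGood False G) {χ : G → ℂ}
    (hχ : IsIrrCharacter G χ) : fs χ = 1 := by
  rcases h χ hχ with h1 | h1
  · exact h1
  · exact absurd h1.1 id

theorem isConj_inv {G : Type u} [Group G] [Finite G] (h : FSGood False G) (g : G) :
    IsConj g g⁻¹ := by
  refine Cfsg.Agent.Characters.GaloisIrr.isConj_of_forall_irr fun χ hχ => ?_
  have h1 := fs_eq_one h hχ
  have h2 := real_of_fs hχ (by rw [h1]; exact one_ne_zero) g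
  rw [isCharacter_apply_inv (isIrr_isCharacter hχ)]
  exact (Complex.conj_eq_iff_im.2 h2).symm

/-- Unipotent isometries are inverted by isometries with the right Dickson invariant. -/
def Uni : Prop :=
  ∀ (F V : Type u) [Field F] [Finite F] [CharP F 2] [AddCommGroup V] [Module F V]
    [FiniteDimensional F V] (Q : QuadraticForm F V), Nondeg Q → ∀ n : ℕ, finrank F V = 2 * n →
    ∀ p ∈ O Q, ∀ a : ℕ, p ^ 2 ^ a = 1 →
    ∃ h ∈ O Q, h * p * h⁻¹ = p⁻¹ ∧
      (finrank F (LinearMap.ker ((h : V →ₗ[F] V) - LinearMap.id)) + n) % 2 = 0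

theorem exists_inv' (hT0 : ∀ n, T0.{u} n) (hU : Uni.{u}) {F V : Type u} [Field F] [Finite F]
    [CharP F 2] [AddCommGroup V] [Module F V] [FiniteDimensional F V] (Q : QuadraticForm F V)
    (hQ : Nondeg Q) {n : ℕ} (hn : finrank F V = 2 * n) {g : V ≃ₗ[F] V} (hg : g ∈ O Q) :
    ∃ h ∈ O Q, h * g * h⁻¹ = g⁻¹ ∧ Even (fxd h + n) := by
  refine FSGlue.exists_inv hQ hn ?_ ?_ hg
  · intro W n₀ hW hn₀ p hp a hpa
    obtain ⟨h, h1, h2, h3⟩ := hU F W (qr Q W) hW n₀ hn₀ p hp a hpa
    exact ⟨h, h1, h2, Nat.even_iff.2 h3⟩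
  · intro W hW g hg
    obtain ⟨n₁, hn₁⟩ := even_finrank_of_nondeg hW
    have hfinW : Finite W := Module.finite_of_finite F
    have hfinE : Finite (W ≃ₗ[F] W) :=
      Finite.of_injective (fun e : W ≃ₗ[F] W => (e : W → W)) DFunLike.coe_injective
    obtain ⟨h, hh⟩ := isConj_iff.1 (isConj_inv (hT0 n₁ F W (qr Q W) hW hn₁) ⟨g, hg⟩)
    exact ⟨h, h.2, congrArg Subtype.val hh⟩

section Matrix

variable {F : Type u} [Field F] [Finite F] [CharP F 2] {ι : Type} [Fintype ι] [DecidableEq ι]
  (Q : QuadraticForm F (ι → F))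

theorem nondegenerate (hQ : Nondeg Q) : (polarBilin Q).Nondegenerate :=
  ⟨hQ, fun y hy => hQ y fun x => by rw [polar_comm]; exact hy x⟩

theorem fixSp_eq (g : Cfsg.isometryGroup F ⇑Q) :
    finrank F (Cfsg.Agent.ClassicalGeometry.OrthCharTwo.fixSp g) = fxd (isometryEquiv Q g : (ι → F) ≃ₗ[F] (ι → F)) := by
  have h : Cfsg.Agent.ClassicalGeometry.OrthCharTwo.fixSp g =
      LinearMap.ker (((isometryEquiv Q g : (ι → F) ≃ₗ[F] (ι → F)) : (ι → F) →ₗ[F] (ι → F)) -
        LinearMap.id) := by
    ext v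
    rw [mem_ker_sub_id]
    exact Iff.rfl
  rw [h]
  rfl

theorem mem_commutator (hQ : Nondeg Q) {m : ℕ} (hm : 2 ≤ m) (hι : Fintype.card ι = 4 * m)
    (g : Cfsg.isometryGroup F ⇑Q)
    (hg : Even (fxd (isometryEquiv Q g : (ι → F) ≃ₗ[F] (ι → F)))) :
    g ∈ commutator (Cfsg.isometryGroup F ⇑Q) := by
  have hnd := nondegenerate Q hQ
  have h4 : (∃ θ : F, θ ≠ 0 ∧ θ ≠ 1) ∨ Fintype.card ι ≠ 4 := Or.inr (by omega)
  have : Nonempty ι := Fintype.card_pos_iff.1 (by omega)
  have h2 : (2 : F) = 0 := CharTwo.two_eq_zero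
  have hidx := Cfsg.Agent.ClassicalGeometry.OrthDickson.index_commutator_two Q h2 hnd h4
  have hd : Cfsg.Agent.ClassicalGeometry.OrthDickson.dsign Q g = 1 := by
    rw [Cfsg.Agent.ClassicalGeometry.OrthDickson.dsign_def, fixSp_eq, hι]
    exact (hg.add (by rw [Nat.even_iff]; omega)).neg_one_pow
  obtain ⟨u, hu⟩ : ∃ u, Q u ≠ 0 := by
    by_contra hcon
    push Not at hcon
    obtain ⟨i⟩ := ‹Nonempty ι›
    have h1 : (Pi.single i (1 : F) : ι → F) = 0 := by
      apply hQ
      intro y
      rw [polar, hcon, hcon, hcon]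
      ring
    have h3 := congrFun h1 i
    simp at h3
  by_contra hcon
  have hr := Cfsg.Agent.ClassicalGeometry.OrthDickson.refl_notMem_commutator Q hnd h4 u hu
  have h5 := (Subgroup.mul_mem_iff_of_index_two hidx (a := g)
    (b := Cfsg.Agent.ClassicalGeometry.Reflection.reflIso Q u hu)).2
      (by constructor <;> intro h; exact absurd h hcon; exact absurd h hr)
  have h6 := Cfsg.Agent.ClassicalGeometry.OrthDickson.dsign_eq_one_of_mem_commutator Q hnd h4 _ h5
  rw [Cfsg.Agent.ClassicalGeometry.OrthDickson.dsign_mul_of_gen Q hnd h4, hd,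
    Cfsg.Agent.ClassicalGeometry.OrthDickson.dsign_refl Q hnd] at h6
  exact absurd h6 (by decide)

theorem omega_real (hT0 : ∀ n, T0.{u} n) (hU : Uni.{u}) (hQ : Nondeg Q) {m : ℕ} (hm : 2 ≤ m)
    (hι : Fintype.card ι = 4 * m) (g : commutator (Cfsg.isometryGroup F ⇑Q)) :
    IsConj g g⁻¹ := by
  have hn : finrank F (ι → F) = 2 * (2 * m) := by
    rw [Module.finrank_fintype_fun_eq_card, hι]
    ring
  obtain ⟨h, hO, hinv, hev⟩ := exists_inv' hT0 hU Q hQ hn (isometryEquiv Q g).2
  let H : Cfsg.isometryGroup F ⇑Q := (isometryEquiv Q).symm ⟨h, hO⟩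
  have hH : isometryEquiv Q H = ⟨h, hO⟩ := (isometryEquiv Q).apply_symm_apply _
  have hH1 : H * (g : Cfsg.isometryGroup F ⇑Q) * H⁻¹ = (g : Cfsg.isometryGroup F ⇑Q)⁻¹ := by
    apply (isometryEquiv Q).injective
    rw [map_mul, map_mul, map_inv, map_inv, hH]
    exact Subtype.ext hinv
  have hH2 : H ∈ commutator (Cfsg.isometryGroup F ⇑Q) := by
    refine mem_commutator Q hQ hm hι H ?_
    rw [hH]
    show Even (fxd h)
    rw [Nat.even_iff] at hev ⊢
    omega
  exact isConj_iff.2 ⟨⟨H, hH2⟩, Subtype.ext hH1⟩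

theorem isometryGroup_fs (hT0 : ∀ n, T0.{u} n) (hQ : Nondeg Q) {n : ℕ}
    (hι : Fintype.card ι = 2 * n) {χ : Cfsg.isometryGroup F ⇑Q → ℂ}
    (hχ : IsIrrCharacter (Cfsg.isometryGroup F ⇑Q) χ) : fs χ = 1 := by
  have hn : finrank F (ι → F) = 2 * n := by
    rw [Module.finrank_fintype_fun_eq_card, hι]
  have h1 := hT0 n F (ι → F) Q hQ hn
  have h2 := fs_eq_one h1 (isIrr_comp (isometryEquiv Q).symm.toMonoidHom
    (isometryEquiv Q).symm.surjective hχ)
  rw [← fs_comp (isometryEquiv Q).symm χ]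
  exact h2

theorem omega_fs (hT0 : ∀ n, T0.{u} n) (hU : Uni.{u}) (hQ : Nondeg Q) {m : ℕ} (hm : 2 ≤ m)
    (hι : Fintype.card ι = 4 * m) {χ : commutator (Cfsg.isometryGroup F ⇑Q) → ℂ}
    (hχ : IsIrrCharacter (commutator (Cfsg.isometryGroup F ⇑Q)) χ) : fs χ = 1 := by
  have hnd := nondegenerate Q hQ
  have h4 : (∃ θ : F, θ ≠ 0 ∧ θ ≠ 1) ∨ Fintype.card ι ≠ 4 := Or.inr (by omega)
  have : Nonempty ι := Fintype.card_pos_iff.1 (by omega)
  have h2 : (2 : F) = 0 := CharTwo.two_eq_zero
  have hidx := Cfsg.Agent.ClassicalGeometry.OrthDickson.index_commutator_two Q h2 hnd h4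
  exact fs_index_two _ hidx (fun χ hχ => isometryGroup_fs Q hT0 hQ
    (show Fintype.card ι = 2 * (2 * m) by omega) hχ) (omega_real Q hT0 hU hQ hm hι) hχ

end Matrix

/-- **S4973** from the indicators of the full orthogonal groups. -/
theorem s4973_of (hT0 : ∀ n, T0.{u} n) (hU : Uni.{u}) {F : Type u} [Field F] [Fintype F]
    [CharP F 2] (m : ℕ) (hm : 2 ≤ m) :
    (∀ χ : Cfsg.IrrCharacter ↥(Cfsg.Omega F (Cfsg.quadFormPlus (2 * m) F)), (Nat.card ↥(Cfsg.Omega F (Cfsg.quadFormPlus (2 * m) F)) : ℂ)⁻¹ * ∑ᶠ s : ↥(Cfsg.Omega F (Cfsg.quadFormPlus (2 * m) F)), (χ : ↥(Cfsg.Omega F (Cfsg.quadFormPlus (2 * m) F)) → ℂ) (s * s) = 1) ∧ (∀ a b : F, (∀ z₁ z₂ : F, z₁ ^ 2 + a * z₁ * z₂ + b * z₂ ^ 2 = 0 → z₁ = 0 ∧ z₂ = 0) → ∀ χ : Cfsg.IrrCharacter ↥(Cfsg.Omega F (Cfsg.quadFormMinus (2 * m - 1) F a b)), (Nat.card ↥(Cfsg.Omega F (Cfsg.quadFormMinus (2 * m - 1) F a b)) : ℂ)⁻¹ * ∑ᶠ s : ↥(Cfsg.Omega F (Cfsg.quadFormMinus (2 * m - 1) F a b)), (χ : ↥(Cfsg.Omega F (Cfsg.quadFormMinus (2 * m - 1) F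 a b)) → ℂ) (s * s) = 1) := by
  constructor
  · rw [← coe_plusForm]
    intro χ
    refine omega_fs (plusForm (2 * m) F) hT0 hU (nondeg_plusForm (2 * m) F) hm ?_ χ.2
    rw [Fintype.card_sum, Fintype.card_fin]
    ring
  · intro a b hab
    rw [← coe_minusForm]
    intro χ
    refine omega_fs (minusForm (2 * m - 1) F a b) hT0 hU (nondeg_minusForm (2 * m - 1) F a b hab)
      hm ?_ χ.2
    rw [Fintype.card_sum, Fintype.card_sum, Fintype.card_fin, Fintype.card_fin]
    omega

/-- **S4972** from the induction. -/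
theorem s4972_of (hT0 : ∀ n, T0.{u} n) {F : Type u} [Field F] [Fintype F] [CharP F 2] (n : ℕ)
    (hn : 1 ≤ n) :
    (∀ χ : Cfsg.IrrCharacter ↥(Cfsg.isometryGroup F (Cfsg.quadFormPlus n F)), (Nat.card ↥(Cfsg.isometryGroup F (Cfsg.quadFormPlus n F)) : ℂ)⁻¹ * ∑ᶠ s : ↥(Cfsg.isometryGroup F (Cfsg.quadFormPlus n F)), (χ : ↥(Cfsg.isometryGroup F (Cfsg.quadFormPlus n F)) → ℂ) (s * s) = 1) ∧ (∀ a b : F, (∀ z₁ z₂ : F, z₁ ^ 2 + a * z₁ * z₂ + b * z₂ ^ 2 = 0 → z₁ = 0 ∧ z₂ = 0) → ∀ χ : Cfsg.IrrCharacter ↥(Cfsg.isometryGroup F (Cfsg.quadFormMinus (n - 1) F a b)), (Nat.card ↥(Cfsg.isometryGroup F (Cfsg.quadFormMinus (n - 1) F a b)) : ℂ)⁻¹ * ∑ᶠ s : ↥(Cfsg.isometryGroup F (Cfsg.quadFormMinus (n - 1) F a b)), (χ : ↥(Cfsg.isometryGroup F (Cfsg.quadFormMinus (n - 1) F a b)) → ℂ) (s * s) = 1) := by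
  constructor
  · rw [← coe_plusForm]
    intro χ
    refine isometryGroup_fs (n := n) (plusForm n F) hT0 (nondeg_plusForm n F) ?_ χ.2
    rw [Fintype.card_sum, Fintype.card_fin]
    ring
  · intro a b hab
    rw [← coe_minusForm]
    intro χ
    refine isometryGroup_fs (n := n) (minusForm (n - 1) F a b) hT0 (nondeg_minusForm (n - 1) F a b hab)
      ?_ χ.2
    rw [Fintype.card_sum, Fintype.card_sum, Fintype.card_fin, Fintype.card_fin]
    omega

end Cfsg.Agent.H646.FSOmega
end

-- part: H892/FSUniA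
section
/-!
# Unipotent isometries in characteristic two: basic identities

`nl p = p + 1`; the form `(x, y) ↦ polar Q x (nl p ^ (k - 1) y)` when `nl p ^ k = 0`; extension of
Gram data (`exists_isometry`); fixed spaces of involutions (`finrank_fixS_of_swap`); the cyclic
case and the case of two generators.
-/

set_option autoImplicit false
set_option linter.unusedSectionVars false

namespace Cfsg.Agent.H892.FSUni

open Module QuadraticMap Cfsg.Agent.LieClassical.OrthCore Cfsg.Agent.H955

universe u v w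

variable {F : Type u} [Field F] {V : Type v} [AddCommGroup V] [Module F V]
  {Q : QuadraticForm F V}

/-! ### The nilpotent part -/

/-- `p + 1` -/
def nl (p : V ≃ₗ[F] V) : Module.End F V := (p : V →ₗ[F] V) + 1

theorem nl_apply (p : V ≃ₗ[F] V) (x : V) : nl p x = p x + x := rfl

section CharTwo

variable [CharP F 2]

theorem add_self' (F : Type u) [Field F] [CharP F 2] {V : Type v} [AddCommGroup V] [Module F V]
    (x : V) : x + x = 0 := by
  rw [← two_smul F x, CharTwo.two_eq_zero, zero_smul]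

theorem eq_of_add (F : Type u) [Field F] [CharP F 2] {V : Type v} [AddCommGroup V] [Module F V]
    {x y : V} (h : x + y = 0) : x = y := by
  have h1 : x = -y := by rw [eq_neg_iff_add_eq_zero]; exact h
  have h2 : y + y = 0 := add_self' F y
  rw [h1, eq_comm, eq_neg_iff_add_eq_zero]; exact h2

theorem map_eq (p : V ≃ₗ[F] V) (x : V) : p x = nl p x + x := by
  rw [nl_apply, add_assoc, add_self' F x, add_zero]

theorem polar_self_zero (Q : QuadraticForm F V) (x : V) : polar Q x x = 0 := by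
  rw [polar_self', CharTwo.two_eq_zero, zero_mul]

theorem polar_nl {p : V ≃ₗ[F] V} (hp : p ∈ O Q) (x y : V) :
    polar Q x (nl p y) = polar Q (nl p x) y + polar Q (nl p x) (nl p y) := by
  simp only [nl_apply, polar_add_left, polar_add_right, polar_map hp]
  have h2 : (2 : F) = 0 := CharTwo.two_eq_zero
  linear_combination (- (polar Q (p x) y) - (polar Q x y)) * h2

theorem Q_nl {p : V ≃ₗ[F] V} (hp : p ∈ O Q) (y : V) : Q (nl p y) = polar Q y (nl p y) := by
  rw [nl_apply, Q_add, mem_O.1 hp, polar_add_right, polar_self_zero, polar_comm Q (p y) y]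
  have h2 : (2 : F) = 0 := CharTwo.two_eq_zero
  linear_combination (Q y) * h2

/-- `(N ^ i x, N ^ j y) = 0` if `i + j ≥ k` and `N ^ k = 0` -/
theorem polar_zero {p : V ≃ₗ[F] V} (hp : p ∈ O Q) {k : ℕ} (hk : nl p ^ k = 0) {i j : ℕ}
    (hij : k ≤ i + j) (x y : V) : polar Q ((nl p ^ i) x) ((nl p ^ j) y) = 0 := by
  have key : ∀ d i j : ℕ, k ≤ i + d → d ≤ j → polar Q ((nl p ^ i) x) ((nl p ^ j) y) = 0 := by
    intro d
    induction d with
    | zero =>
      intro i j hi _
      have h1 : nl p ^ i = 0 := by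
        rw [← Nat.sub_add_cancel (show k ≤ i by omega), pow_add, hk, mul_zero]
      rw [h1, LinearMap.zero_apply, polar_zero_left]
    | succ d ih =>
      intro i j hi hj
      obtain ⟨j', rfl⟩ : ∃ j', j = j' + 1 := ⟨j - 1, by omega⟩
      have e1 : (nl p ^ (j' + 1)) y = nl p ((nl p ^ j') y) := by
        rw [pow_succ', Module.End.mul_apply]
      have e2 : nl p ((nl p ^ i) x) = (nl p ^ (i + 1)) x := by
        rw [pow_succ', Module.End.mul_apply]
      rw [e1, polar_nl hp, e2, ← e1, ih (i + 1) j' (by omega) (by omega),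
        ih (i + 1) (j' + 1) (by omega) (by omega), add_zero]
  exact key j i j hij le_rfl

/-- the top form -/
theorem polar_top {p : V ≃ₗ[F] V} (hp : p ∈ O Q) {k : ℕ} (hk : nl p ^ k = 0) {i j : ℕ}
    (hij : i + j + 1 = k) (x y : V) :
    polar Q ((nl p ^ i) x) ((nl p ^ j) y) = polar Q x ((nl p ^ (k - 1)) y) := by
  induction i generalizing j with
  | zero =>
    have : j = k - 1 := by omega
    rw [this]
    rfl
  | succ i ih =>
    rw [← ih (j := j + 1) (by omega)]
    have e1 : (nl p ^ (j + 1)) y = nl p ((nl p ^ j) y) := by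
      rw [pow_succ', Module.End.mul_apply]
    have e2 : nl p ((nl p ^ i) x) = (nl p ^ (i + 1)) x := by
      rw [pow_succ', Module.End.mul_apply]
    rw [e1, polar_nl hp, e2, ← e1, polar_zero hp hk (i := i + 1) (j := j + 1) (by omega),
      add_zero]

theorem top_symm {p : V ≃ₗ[F] V} (hp : p ∈ O Q) {k : ℕ} (hk : nl p ^ k = 0) (hk1 : 1 ≤ k)
    (x y : V) : polar Q x ((nl p ^ (k - 1)) y) = polar Q y ((nl p ^ (k - 1)) x) := by
  rw [polar_comm Q y, ← polar_top hp hk (i := k - 1) (j := 0) (by omega) x y]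
  rfl

/-! ### Fixed spaces of involutions -/

theorem finrank_fixS_of_swap [FiniteDimensional F V] {h : V ≃ₗ[F] V} (hh : h * h = 1)
    {W : Submodule F V} (hW : W ⊔ W.map (h : V →ₗ[F] V) = ⊤)
    (hd : 2 * finrank F W ≤ finrank F V) : 2 * finrank F (fixS h) = finrank F V := by
  have hh' : ∀ x, h (h x) = x := fun x => by
    have := congrArg (fun g : V ≃ₗ[F] V => g x) hh
    exact this
  have h1 : finrank F (W.map (h : V →ₗ[F] V)) = finrank F W := LinearEquiv.finrank_map_eq h W
  have h2 := Submodule.finrank_sup_add_finrank_inf_eq W (W.map (h : V →ₗ[F] V))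
  rw [hW, finrank_top, h1] at h2
  have h3 : finrank F (W ⊓ W.map (h : V →ₗ[F] V) : Submodule F V) = 0 := by omega
  rw [Submodule.finrank_eq_zero] at h3
  have h4 : Disjoint W (fixS h) := by
    rw [Submodule.disjoint_def]
    intro x hx hx'
    have : x ∈ W ⊓ W.map (h : V →ₗ[F] V) := ⟨hx, x, hx, mem_fixS.1 hx'⟩
    rw [h3] at this
    exact (Submodule.mem_bot F).1 this
  have h5 := Submodule.finrank_add_finrank_le_of_disjoint h4
  have h6 := finrank_fixS_add_comS h
  have h7 : comS h ≤ fixS h := by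
    intro x hx
    obtain ⟨w, rfl⟩ := mem_comS.1 hx
    rw [mem_fixS, map_sub, hh']
    apply eq_of_add F
    abel
  have h8 := Submodule.finrank_mono h7
  omega

/-! ### Isometries from Gram data -/

theorem polar_sum {I : Type w} (x : I → V) (a b : I →₀ F) :
    polar Q (Finsupp.linearCombination F x a) (Finsupp.linearCombination F x b) =
      a.sum fun i c => b.sum fun j d => c * (d * polar Q (x i) (x j)) := by
  rw [Finsupp.linearCombination_apply, Finsupp.linearCombination_apply]
  have h1 : ∀ (s t : V), polar Q s t = polarBilin Q s t := fun s t => rfl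
  rw [h1, Finsupp.sum, map_sum, LinearMap.sum_apply]
  refine Finset.sum_congr rfl fun i _ => ?_
  rw [Finsupp.sum, map_sum]
  refine Finset.sum_congr rfl fun j _ => ?_
  rw [← h1, polar_smul_left, polar_smul_right, smul_eq_mul, smul_eq_mul]

theorem exists_isometry [FiniteDimensional F V] (hQ : Nondeg Q) {I : Type w} (x y : I → V)
    (hx : Submodule.span F (Set.range x) = ⊤) (hy : Submodule.span F (Set.range y) = ⊤)
    (hq : ∀ i, Q (x i) = Q (y i)) (hb : ∀ i j, polar Q (x i) (x j) = polar Q (y i) (y j)) :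
    ∃ h ∈ O Q, ∀ i, h (x i) = y i := by
  classical
  set X := Finsupp.linearCombination F x with hX
  set Y := Finsupp.linearCombination F y with hY
  have hXs : Function.Surjective X := by
    rw [← LinearMap.range_eq_top, Finsupp.range_linearCombination, hx]
  have hYs : Function.Surjective Y := by
    rw [← LinearMap.range_eq_top, Finsupp.range_linearCombination, hy]
  have hpol : ∀ a b, polar Q (X a) (X b) = polar Q (Y a) (Y b) := by
    intro a b
    rw [polar_sum, polar_sum]
    refine Finsupp.sum_congr fun i _ => Finsupp.sum_congr fun j _ => ?_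
    rw [hb]
  have hQQ : ∀ a, Q (X a) = Q (Y a) := by
    intro a
    induction a using Finsupp.induction_linear with
    | zero => simp
    | add a b ha hb' => rw [LinearMap.map_add X, LinearMap.map_add Y, Q_add, Q_add, ha, hb', hpol]
    | single i c =>
      rw [hX, hY, Finsupp.linearCombination_single, Finsupp.linearCombination_single,
        QuadraticMap.map_smul, QuadraticMap.map_smul, hq]
  have hker : ∀ a, X a = 0 → Y a = 0 := by
    intro a ha
    refine hQ _ fun z => ?_
    obtain ⟨b, rfl⟩ := hYs z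
    rw [← hpol, ha, polar_zero_left]
  obtain ⟨s, hs⟩ := X.exists_rightInverse_of_surjective (LinearMap.range_eq_top.2 hXs)
  have hs' : ∀ v, X (s v) = v := fun v => LinearMap.congr_fun hs v
  let H : V →ₗ[F] V := Y ∘ₗ s
  have hH : ∀ a, H (X a) = Y a := by
    intro a
    have h1 : X (s (X a) - a) = 0 := by rw [map_sub, hs', sub_self]
    have h2 := hker _ h1
    rw [map_sub, sub_eq_zero] at h2
    exact h2
  have hHQ : ∀ v, Q (H v) = Q v := by
    intro v
    obtain ⟨a, rfl⟩ := hXs v
    rw [hH, hQQ]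
  have hinj : Function.Injective H := by
    rw [← LinearMap.ker_eq_bot, LinearMap.ker_eq_bot']
    intro v hv
    refine hQ _ fun z => ?_
    have h1 : polar Q (H v) (H z) = polar Q v z := by
      simp only [polar, ← map_add, hHQ]
    rw [← h1, hv, polar_zero_left]
  refine ⟨LinearEquiv.ofInjectiveEndo H hinj, fun v => hHQ v, fun i => ?_⟩
  change H (x i) = y i
  have h1 : x i = X (Finsupp.single i 1) := by
    rw [hX, Finsupp.linearCombination_single, one_smul]
  rw [h1, hH, hY, Finsupp.linearCombination_single, one_smul]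

end CharTwo

end Cfsg.Agent.H892.FSUni
end

-- part: H892/FSUniB
section
/-!
# Unipotent isometries in characteristic two: one and two generators
-/

set_option autoImplicit false
set_option linter.unusedSectionVars false

namespace Cfsg.Agent.H892.FSUni

open Module QuadraticMap Cfsg.Agent.LieClassical.OrthCore Cfsg.Agent.H955

universe u v w

variable {F : Type u} [Field F] {V : Type v} [AddCommGroup V] [Module F V]
  {Q : QuadraticForm F V} [CharP F 2]

/-- the conclusion: `p` is inverted by an isometry of order two with fixed space of dimension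
`dim V / 2` -/
def Good (Q : QuadraticForm F V) (p : V ≃ₗ[F] V) : Prop :=
  ∃ h ∈ O Q, h * h = 1 ∧ h * p = p⁻¹ * h ∧ 2 * finrank F (fixS h) = finrank F V

theorem zpow_mem_O {p : V ≃ₗ[F] V} (hp : p ∈ O Q) (i : ℤ) : p ^ i ∈ O Q := zpow_mem hp i

theorem polar_zpow {p : V ≃ₗ[F] V} (hp : p ∈ O Q) (i j : ℤ) (x y : V) :
    polar Q ((p ^ i) x) ((p ^ j) y) = polar Q x ((p ^ (j - i)) y) := by
  rw [← polar_map (zpow_mem_O hp i) x, ← LinearEquiv.mul_apply, ← zpow_add]
  congr 3
  ring_nf

theorem polar_zpow_symm {p : V ≃ₗ[F] V} (hp : p ∈ O Q) (i : ℤ) (x y : V) :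
    polar Q x ((p ^ i) y) = polar Q y ((p ^ (-i)) x) := by
  rw [polar_comm Q y, ← polar_map (zpow_mem_O hp (-i)) x ((p ^ i) y), ← LinearEquiv.mul_apply,
    ← zpow_add, neg_add_cancel, zpow_zero]
  rfl

/-- a subspace containing all `p ^ i v` contains all `N ^ i v` -/
theorem nl_pow_mem {p : V ≃ₗ[F] V} {S : Submodule F V} (hS : ∀ x ∈ S, p x ∈ S) (i : ℕ) {x : V}
    (hx : x ∈ S) : (nl p ^ i) x ∈ S := by
  induction i with
  | zero => exact hx
  | succ i ih =>
    rw [pow_succ', Module.End.mul_apply, nl_apply]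
    exact S.add_mem (hS _ ih) ih

/-- `N ^ i v` is a combination of the `p ^ j v`, `j ≤ i` -/
theorem nl_pow_mem_of_le {p : V ≃ₗ[F] V} {S : Submodule F V} {v : V} (i : ℕ) :
    ∀ (m : ℕ), (∀ j ≤ i + m, (p ^ j) v ∈ S) → ∀ j ≤ m, (nl p ^ i) ((p ^ j) v) ∈ S := by
  induction i with
  | zero =>
    intro m h j hj
    exact h j (by omega)
  | succ i ih =>
    intro m h j hj
    rw [pow_succ, Module.End.mul_apply, nl_apply, map_add]
    have e1 : p ((p ^ j) v) = (p ^ (j + 1)) v := by rw [pow_succ', LinearEquiv.mul_apply]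
    rw [e1]
    exact S.add_mem (ih (m + 1) (fun j hj => h j (by omega)) (j + 1) (by omega))
      (ih (m + 1) (fun j hj => h j (by omega)) j (by omega))

theorem span_zpow_inv (p : V ≃ₗ[F] V) (v : V) :
    ∀ x ∈ Submodule.span F (Set.range fun i : ℤ => (p ^ i) v),
      p x ∈ Submodule.span F (Set.range fun i : ℤ => (p ^ i) v) := by
  intro x hx
  have h1 : Submodule.span F (Set.range fun i : ℤ => (p ^ i) v) ≤
      (Submodule.span F (Set.range fun i : ℤ => (p ^ i) v)).comap (p : V →ₗ[F] V) := by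
    rw [Submodule.span_le]
    rintro _ ⟨i, rfl⟩
    apply Submodule.subset_span
    refine ⟨i + 1, ?_⟩
    change (p ^ (i + 1)) v = p ((p ^ i) v)
    rw [add_comm, zpow_add, zpow_one, LinearEquiv.mul_apply]
  exact h1 hx

/-- a `p`-invariant finite-dimensional subspace is `p ^ i`-invariant for every integer `i` -/
theorem zpow_mem_of_inv [FiniteDimensional F V] {p : V ≃ₗ[F] V} {S : Submodule F V}
    (hS : ∀ x ∈ S, p x ∈ S) (i : ℤ) {x : V} (hx : x ∈ S) : (p ^ i) x ∈ S := by
  have hinv : ∀ x ∈ S, p⁻¹ x ∈ S := by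
    intro x hx
    have h1 : S.map (p : V →ₗ[F] V) = S := by
      apply Submodule.eq_of_le_of_finrank_eq
      · rintro _ ⟨y, hy, rfl⟩
        exact hS y hy
      · exact LinearEquiv.finrank_map_eq p S
    rw [← h1] at hx
    obtain ⟨y, hy, rfl⟩ := hx
    change p.symm (p y) ∈ S
    rw [LinearEquiv.symm_apply_apply]
    exact hy
  induction i using Int.induction_on with
  | zero => exact hx
  | succ i ih =>
    rw [add_comm, zpow_add, zpow_one, LinearEquiv.mul_apply]
    exact hS _ ih
  | pred i ih =>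
    rw [sub_eq_add_neg, add_comm, zpow_add, zpow_neg_one, LinearEquiv.mul_apply]
    exact hinv _ ih

/-- cyclic case -/
theorem good_cyclic [FiniteDimensional F V] (hQ : Nondeg Q) {p : V ≃ₗ[F] V} (hp : p ∈ O Q) {n : ℕ}
    (hd : finrank F V = 2 * n) (v : V)
    (hv : Submodule.span F (Set.range fun i : Fin (2 * n) => (nl p ^ (i : ℕ)) v) = ⊤) :
    Good Q p := by
  classical
  have hspan : Submodule.span F (Set.range fun i : ℤ => (p ^ i) v) = ⊤ := by
    rw [eq_top_iff, ← hv, Submodule.span_le]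
    rintro _ ⟨i, rfl⟩
    exact nl_pow_mem (span_zpow_inv p v) i (Submodule.subset_span ⟨0, rfl⟩)
  have hspan' : Submodule.span F (Set.range fun i : ℤ => (p ^ (-i - 1)) v) = ⊤ := by
    rw [← hspan]
    congr 1
    ext x
    constructor
    · rintro ⟨i, rfl⟩
      exact ⟨-i - 1, rfl⟩
    · rintro ⟨i, rfl⟩
      exact ⟨-i - 1, by
        change (p ^ (-(-i - 1) - 1)) v = _
        congr 2
        ring⟩
  obtain ⟨h, hh, hhv⟩ := exists_isometry hQ (fun i : ℤ => (p ^ i) v)
    (fun i : ℤ => (p ^ (-i - 1)) v) hspan hspan'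
    (fun i => by rw [mem_O.1 (zpow_mem_O hp i), mem_O.1 (zpow_mem_O hp (-i - 1))])
    (fun i j => by
      rw [polar_zpow hp, polar_zpow hp, polar_zpow_symm hp]
      congr 3
      ring_nf)
  have hext : ∀ g g' : V ≃ₗ[F] V, (∀ i : ℤ, g ((p ^ i) v) = g' ((p ^ i) v)) → g = g' := by
    intro g g' hg
    apply LinearEquiv.toLinearMap_injective
    apply LinearMap.ext_on_range hspan
    intro i
    exact hg i
  have hinvol : h * h = 1 := by
    apply hext
    intro i
    rw [LinearEquiv.mul_apply, hhv, hhv (-i - 1)]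
    change _ = (p ^ i) v
    congr 2
    ring
  refine ⟨h, hh, hinvol, ?_, ?_⟩
  · apply hext
    intro i
    rw [LinearEquiv.mul_apply, LinearEquiv.mul_apply, hhv]
    have e1 : p ((p ^ i) v) = (p ^ (i + 1)) v := by
      rw [add_comm, zpow_add, zpow_one, LinearEquiv.mul_apply]
    rw [e1, hhv, ← LinearEquiv.mul_apply, ← zpow_neg_one, ← zpow_add]
    congr 2
    ring
  · let W : Submodule F V := Submodule.span F (Set.range fun i : Fin n => (p ^ (i : ℕ)) v)
    have hWd : finrank F W ≤ n := by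
      have := finrank_range_le_card (R := F) (fun i : Fin n => (p ^ (i : ℕ)) v)
      rwa [Fintype.card_fin] at this
    refine finrank_fixS_of_swap hinvol (W := W) ?_ (by omega)
    -- `W + h W` contains `p ^ j v` for `-n ≤ j < n`
    have hmem : ∀ j : ℤ, -n ≤ j → j < n → (p ^ j) v ∈ W ⊔ W.map (h : V →ₗ[F] V) := by
      intro j h1 h2
      by_cases hj : 0 ≤ j
      · obtain ⟨m, rfl⟩ := Int.eq_ofNat_of_zero_le hj
        apply Submodule.mem_sup_left
        apply Submodule.subset_span
        exact ⟨⟨m, by omega⟩, by simp⟩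
      · obtain ⟨m, hm⟩ := Int.eq_ofNat_of_zero_le (show 0 ≤ -j - 1 by omega)
        apply Submodule.mem_sup_right
        refine ⟨(p ^ m) v, Submodule.subset_span ⟨⟨m, by omega⟩, rfl⟩, ?_⟩
        change h ((p ^ m) v) = _
        have h3 := hhv (m : ℤ)
        rw [zpow_natCast] at h3
        rw [h3]
        congr 2
        omega
    have hmap : (W ⊔ W.map (h : V →ₗ[F] V)).map ((p ^ n : V ≃ₗ[F] V) : V →ₗ[F] V) = ⊤ := by
      rw [eq_top_iff, ← hv, Submodule.span_le]
      rintro _ ⟨i, rfl⟩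
      have hi := i.2
      have h4 := nl_pow_mem_of_le (p := p)
        (S := (W ⊔ W.map (h : V →ₗ[F] V)).map ((p ^ n : V ≃ₗ[F] V) : V →ₗ[F] V)) (v := v) (i : ℕ) 0
        (fun j hj => by
          refine ⟨(p ^ ((j : ℤ) - n)) v, hmem _ (by omega) (by omega), ?_⟩
          change (p ^ n) ((p ^ ((j : ℤ) - n)) v) = (p ^ j) v
          rw [← zpow_natCast, ← zpow_natCast, ← LinearEquiv.mul_apply, ← zpow_add]
          congr 2
          ring) 0 le_rfl
      exact h4
    rw [eq_top_iff]
    intro x _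
    have h5 : (p ^ n) x ∈ (W ⊔ W.map (h : V →ₗ[F] V)).map ((p ^ n : V ≃ₗ[F] V) : V →ₗ[F] V) := by
      rw [hmap]; trivial
    obtain ⟨y, hy, hyx⟩ := h5
    have : y = x := (p ^ n : V ≃ₗ[F] V).injective hyx
    rwa [this] at hy

/-- `(x, p ^ i x)` is determined by the values `Q (N ^ j x)` -/
theorem polar_pow_eq {p : V ≃ₗ[F] V} (hp : p ∈ O Q) (i : ℕ) :
    ∀ x y : V, (∀ j : ℕ, Q ((nl p ^ j) x) = Q ((nl p ^ j) y)) →
      polar Q x ((p ^ i) x) = polar Q y ((p ^ i) y) := by
  have h2 : (2 : F) = 0 := CharTwo.two_eq_zero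
  have key : ∀ i : ℕ, (∀ x y : V, (∀ j : ℕ, Q ((nl p ^ j) x) = Q ((nl p ^ j) y)) →
      polar Q x ((p ^ i) x) = polar Q y ((p ^ i) y)) ∧
      (∀ x y : V, (∀ j : ℕ, Q ((nl p ^ j) x) = Q ((nl p ^ j) y)) →
      polar Q x ((p ^ (i + 1)) x) = polar Q y ((p ^ (i + 1)) y)) := by
    intro i
    induction i with
    | zero =>
      refine ⟨fun x y _ => ?_, fun x y hxy => ?_⟩
      · change polar Q x x = polar Q y y
        rw [polar_self_zero, polar_self_zero]
      · have h1 : ∀ z : V, polar Q z ((p ^ (0 + 1)) z) = Q ((nl p ^ 1) z) := by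
          intro z
          have h3 : (nl p ^ 1) z = nl p z := by rw [pow_one]
          rw [h3, Q_nl hp, nl_apply, polar_add_right, polar_self_zero, add_zero]
          rfl
        rw [h1, h1, hxy]
    | succ i ih =>
      refine ⟨ih.2, fun x y hxy => ?_⟩
      have h1 : ∀ z : V, polar Q z ((p ^ (i + 1 + 1)) z) =
          polar Q (nl p z) ((p ^ (i + 1)) (nl p z)) + polar Q z ((p ^ i) z) := by
        intro z
        have e1 : polar Q (p z) ((p ^ (i + 1)) (p z)) = polar Q z ((p ^ (i + 1)) z) := by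
          have : (p ^ (i + 1)) (p z) = p ((p ^ (i + 1)) z) := by
            rw [← LinearEquiv.mul_apply, ← LinearEquiv.mul_apply, ← pow_succ, ← pow_succ']
          rw [this, polar_map hp]
        have e2 : polar Q (p z) ((p ^ (i + 1)) z) = polar Q z ((p ^ i) z) := by
          rw [pow_succ', LinearEquiv.mul_apply, polar_map hp]
        have e3 : polar Q z ((p ^ (i + 1)) (p z)) = polar Q z ((p ^ (i + 1 + 1)) z) := by
          rw [← LinearEquiv.mul_apply, ← pow_succ]
        simp only [nl_apply, map_add, polar_add_left, polar_add_right, e1, e2, e3]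
        linear_combination (-(polar Q z ((p ^ (i + 1)) z)) - polar Q z ((p ^ i) z)) * h2
      rw [h1, h1, ih.1 x y hxy, ih.2 (nl p x) (nl p y) (fun j => by
        rw [← Module.End.mul_apply, ← Module.End.mul_apply, ← pow_succ]
        exact hxy (j + 1))]
  exact (key i).1

theorem polar_zpow_eq {p : V ≃ₗ[F] V} (hp : p ∈ O Q) {x y : V}
    (hxy : ∀ j : ℕ, Q ((nl p ^ j) x) = Q ((nl p ^ j) y)) (i : ℤ) :
    polar Q x ((p ^ i) x) = polar Q y ((p ^ i) y) := by
  obtain ⟨n, rfl | rfl⟩ := Int.eq_nat_or_neg i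
  · rw [zpow_natCast]
    exact polar_pow_eq hp n x y hxy
  · rw [polar_zpow_symm hp, neg_neg, polar_zpow_symm hp (-(n : ℤ)) y y, neg_neg, zpow_natCast]
    exact polar_pow_eq hp n x y hxy

/-- two generators -/
theorem good_two [FiniteDimensional F V] (hQ : Nondeg Q) {p : V ≃ₗ[F] V} (hp : p ∈ O Q) {k : ℕ}
    (hk : nl p ^ k = 0) (hd : finrank F V = 2 * k) (a b : V)
    (hspan : Submodule.span F (Set.range fun x : Fin k => (nl p ^ (x : ℕ)) a) ⊔
      Submodule.span F (Set.range fun x : Fin k => (nl p ^ (x : ℕ)) b) = ⊤)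
    (hab : ∀ j : ℕ, Q ((nl p ^ j) a) = Q ((nl p ^ j) b)) : Good Q p := by
  classical
  let S : V → Submodule F V := fun v => Submodule.span F (Set.range fun i : ℤ => (p ^ i) v)
  have hle : ∀ v, Submodule.span F (Set.range fun x : Fin k => (nl p ^ (x : ℕ)) v) ≤ S v := by
    intro v
    rw [Submodule.span_le]
    rintro _ ⟨i, rfl⟩
    exact nl_pow_mem (span_zpow_inv p v) i (Submodule.subset_span ⟨0, rfl⟩)
  have hge : ∀ v, S v ≤ Submodule.span F (Set.range fun x : Fin k => (nl p ^ (x : ℕ)) v) := by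
    intro v
    have hmem : ∀ i : ℕ, (nl p ^ i) v ∈
        Submodule.span F (Set.range fun x : Fin k => (nl p ^ (x : ℕ)) v) := by
      intro i
      by_cases hi : i < k
      · exact Submodule.subset_span ⟨⟨i, hi⟩, rfl⟩
      · have h1 : nl p ^ i = 0 := by
          rw [← Nat.sub_add_cancel (show k ≤ i by omega), pow_add, hk, mul_zero]
        rw [h1]
        exact Submodule.zero_mem _
    have hinv : ∀ x ∈ Submodule.span F (Set.range fun x : Fin k => (nl p ^ (x : ℕ)) v),
        p x ∈ Submodule.span F (Set.range fun x : Fin k => (nl p ^ (x : ℕ)) v) := by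
      intro x hx
      have h1 : Submodule.span F (Set.range fun x : Fin k => (nl p ^ (x : ℕ)) v) ≤
          (Submodule.span F (Set.range fun x : Fin k => (nl p ^ (x : ℕ)) v)).comap
            (p : V →ₗ[F] V) := by
        rw [Submodule.span_le]
        rintro _ ⟨i, rfl⟩
        change p ((nl p ^ (i : ℕ)) v) ∈
          Submodule.span F (Set.range fun x : Fin k => (nl p ^ (x : ℕ)) v)
        rw [map_eq, ← Module.End.mul_apply, ← pow_succ']
        exact Submodule.add_mem _ (hmem _) (hmem _)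
      exact h1 hx
    change Submodule.span F _ ≤ _
    rw [Submodule.span_le]
    rintro _ ⟨i, rfl⟩
    exact zpow_mem_of_inv hinv i (hmem 0)
  have htop : S a ⊔ S b = ⊤ := by
    rw [eq_top_iff, ← hspan]
    exact sup_le_sup (hle a) (hle b)
  have hdim : finrank F (S a) ≤ k := by
    refine (Submodule.finrank_mono (hge a)).trans ?_
    have := finrank_range_le_card (R := F) (fun i : Fin k => (nl p ^ (i : ℕ)) a)
    rwa [Fintype.card_fin] at this
  let x : ℤ ⊕ ℤ → V := Sum.elim (fun i => (p ^ i) a) (fun i => (p ^ i) b)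
  let y : ℤ ⊕ ℤ → V := Sum.elim (fun i => (p ^ (-i)) b) (fun i => (p ^ (-i)) a)
  have hx : Submodule.span F (Set.range x) = ⊤ := by
    rw [Set.Sum.elim_range, Submodule.span_union]
    exact htop
  have hneg : ∀ v : V, (Set.range fun i : ℤ => (p ^ (-i)) v) = Set.range fun i : ℤ => (p ^ i) v := by
    intro v
    ext z
    constructor
    · rintro ⟨i, rfl⟩
      exact ⟨-i, rfl⟩
    · rintro ⟨i, rfl⟩
      exact ⟨-i, by simp⟩
  have hy : Submodule.span F (Set.range y) = ⊤ := by
    rw [Set.Sum.elim_range, Submodule.span_union, hneg, hneg, sup_comm]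
    exact htop
  have hQab : Q a = Q b := hab 0
  obtain ⟨h, hh, hhv⟩ := exists_isometry hQ x y hx hy
    (by
      rintro (i | i)
      · change Q ((p ^ i) a) = Q ((p ^ (-i)) b)
        rw [mem_O.1 (zpow_mem_O hp i), mem_O.1 (zpow_mem_O hp (-i)), hQab]
      · change Q ((p ^ i) b) = Q ((p ^ (-i)) a)
        rw [mem_O.1 (zpow_mem_O hp i), mem_O.1 (zpow_mem_O hp (-i)), hQab])
    (by
      rintro (i | i) (j | j)
      · change polar Q ((p ^ i) a) ((p ^ j) a) = polar Q ((p ^ (-i)) b) ((p ^ (-j)) b)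
        rw [polar_zpow hp, polar_zpow hp, polar_zpow_symm hp, polar_zpow_eq hp hab]
        congr 3
        ring_nf
      · change polar Q ((p ^ i) a) ((p ^ j) b) = polar Q ((p ^ (-i)) b) ((p ^ (-j)) a)
        rw [polar_zpow hp, polar_zpow hp, polar_zpow_symm hp]
        congr 3
        ring_nf
      · change polar Q ((p ^ i) b) ((p ^ j) a) = polar Q ((p ^ (-i)) a) ((p ^ (-j)) b)
        rw [polar_zpow hp, polar_zpow hp, polar_zpow_symm hp]
        congr 3
        ring_nf
      · change polar Q ((p ^ i) b) ((p ^ j) b) = polar Q ((p ^ (-i)) a) ((p ^ (-j)) a)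
        rw [polar_zpow hp, polar_zpow hp, polar_zpow_symm hp, ← polar_zpow_eq hp hab]
        congr 3
        ring_nf)
  have h1 : ∀ i : ℤ, h ((p ^ i) a) = (p ^ (-i)) b := fun i => hhv (Sum.inl i)
  have h2 : ∀ i : ℤ, h ((p ^ i) b) = (p ^ (-i)) a := fun i => hhv (Sum.inr i)
  have hext : ∀ g g' : V ≃ₗ[F] V, (∀ i : ℤ, g ((p ^ i) a) = g' ((p ^ i) a)) →
      (∀ i : ℤ, g ((p ^ i) b) = g' ((p ^ i) b)) → g = g' := by
    intro g g' hg hg'
    apply LinearEquiv.toLinearMap_injective
    apply LinearMap.ext_on_range hx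
    rintro (i | i)
    · exact hg i
    · exact hg' i
  have hinvol : h * h = 1 := by
    apply hext
    · intro i
      rw [LinearEquiv.mul_apply, h1, h2, neg_neg]
      rfl
    · intro i
      rw [LinearEquiv.mul_apply, h2, h1, neg_neg]
      rfl
  have e1 : ∀ (i : ℤ) (v : V), p ((p ^ i) v) = (p ^ (i + 1)) v := by
    intro i v
    rw [add_comm, zpow_add, zpow_one, LinearEquiv.mul_apply]
  have e2 : ∀ (i : ℤ) (v : V), p⁻¹ ((p ^ (-i)) v) = (p ^ (-(i + 1))) v := by
    intro i v
    rw [← LinearEquiv.mul_apply, ← zpow_neg_one, ← zpow_add]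
    congr 2
    ring
  refine ⟨h, hh, hinvol, ?_, ?_⟩
  · apply hext
    · intro i
      rw [LinearEquiv.mul_apply, LinearEquiv.mul_apply, h1, e1, h1, e2]
    · intro i
      rw [LinearEquiv.mul_apply, LinearEquiv.mul_apply, h2, e1, h2, e2]
  · refine finrank_fixS_of_swap hinvol (W := S a) ?_ (by omega)
    have h3 : (S a).map (h : V →ₗ[F] V) = S b := by
      change (Submodule.span F _).map _ = Submodule.span F _
      rw [Submodule.map_span]
      congr 1
      ext z
      constructor
      · rintro ⟨_, ⟨i, rfl⟩, rfl⟩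
        exact ⟨-i, (h1 i).symm⟩
      · rintro ⟨i, rfl⟩
        exact ⟨_, ⟨-i, rfl⟩, by
          change h ((p ^ (-i)) a) = _
          rw [h1, neg_neg]⟩
    rw [h3]
    exact htop

end Cfsg.Agent.H892.FSUni
end

-- part: H892/FSUniC
section
/-!
# Unipotent isometries in characteristic two: the induction

`unipotent_inv` : a `2`-element `p` of `O Q`, `Q` nondegenerate of dimension `2 n` over a finite
field of characteristic two, is inverted by an isometry `h` of order at most two whose fixed space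
has dimension exactly `n` (so the Dickson invariant of `h` is `n mod 2`).
-/

set_option autoImplicit false
set_option linter.unusedSectionVars false

namespace Cfsg.Agent.H892.FSUni

open Module QuadraticMap Cfsg.Agent.LieClassical.OrthCore Cfsg.Agent.H955

universe u v w

variable {F : Type u} [Field F] {V : Type v} [AddCommGroup V] [Module F V]
  {Q : QuadraticForm F V} [CharP F 2]

/-! ### Nondegenerate invariant subspaces -/

theorem polar_sum_left {I : Type w} (s : Finset I) (f : I → V) (y : V) :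
    polar Q (∑ i ∈ s, f i) y = ∑ i ∈ s, polar Q (f i) y := by
  have h1 : ∀ (s t : V), polar Q s t = polarBilin Q s t := fun s t => rfl
  rw [h1, map_sum, LinearMap.sum_apply]
  rfl

/-- if the top form is nondegenerate on the `e s`, a combination of the `N ^ i (e s)` orthogonal
to all of them has zero coefficients. -/
theorem coeff_zero {p : V ≃ₗ[F] V} (hp : p ∈ O Q) {k : ℕ} (hk : nl p ^ k = 0) {I : Type w}
    [Fintype I] (e : I → V)
    (hM : ∀ c : I → F, (∀ t, ∑ s, c s * polar Q (e s) ((nl p ^ (k - 1)) (e t)) = 0) → c = 0)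
    (c : I × Fin k → F)
    (hc : ∀ (t : I) (j : Fin k), polar Q (∑ x : I × Fin k, c x • (nl p ^ (x.2 : ℕ)) (e x.1))
      ((nl p ^ (j : ℕ)) (e t)) = 0) : c = 0 := by
  classical
  have key : ∀ m : ℕ, ∀ hm : m < k, ∀ s, c (s, ⟨m, hm⟩) = 0 := by
    intro m
    induction m using Nat.strong_induction_on with
    | _ m ih =>
      intro hm
      have h1 := hM (fun s => c (s, ⟨m, hm⟩)) (by
        intro t
        have h2 := hc t ⟨k - 1 - m, by omega⟩
        rw [polar_sum_left, Fintype.sum_prod_type] at h2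
        rw [← h2]
        refine Finset.sum_congr rfl fun s _ => ?_
        rw [Finset.sum_eq_single (⟨m, hm⟩ : Fin k)]
        · rw [polar_smul_left, smul_eq_mul, polar_top hp hk (by simp; omega)]
        · intro i _ hi
          have hi' : (i : ℕ) ≠ m := fun h => hi (Fin.ext h)
          rcases Nat.lt_or_ge (i : ℕ) m with h3 | h3
          · have := ih i h3 i.2 s
            have h4 : c (s, i) = 0 := this
            rw [h4, zero_smul, polar_zero_left]
          · rw [polar_smul_left, polar_zero hp hk (by simp; omega), smul_zero]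
        · intro h
          exact absurd (Finset.mem_univ _) h)
      intro s
      exact congrFun h1 s
  funext x
  exact key x.2 x.2.2 x.1

/-- the span of the `N ^ i (e s)` -/
def spn (p : V ≃ₗ[F] V) (k : ℕ) {I : Type w} (e : I → V) : Submodule F V :=
  Submodule.span F (Set.range fun x : I × Fin k => (nl p ^ (x.2 : ℕ)) (e x.1))

theorem mem_spn {p : V ≃ₗ[F] V} {k : ℕ} (hk : nl p ^ k = 0) {I : Type w} (e : I → V) (s : I)
    (i : ℕ) : (nl p ^ i) (e s) ∈ spn p k e := by
  by_cases hi : i < k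
  · exact Submodule.subset_span ⟨(s, ⟨i, hi⟩), rfl⟩
  · have h1 : nl p ^ i = 0 := by
      rw [← Nat.sub_add_cancel (show k ≤ i by omega), pow_add, hk, mul_zero]
    rw [h1]
    exact Submodule.zero_mem _

theorem inv_spn {p : V ≃ₗ[F] V} {k : ℕ} (hk : nl p ^ k = 0) {I : Type w} (e : I → V) :
    Inv p (spn p k e) := by
  intro x hx
  have h1 : spn p k e ≤ (spn p k e).comap (p : V →ₗ[F] V) := by
    rw [spn, Submodule.span_le]
    rintro _ ⟨⟨s, i⟩, rfl⟩
    change p ((nl p ^ (i : ℕ)) (e s)) ∈ spn p k e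
    rw [map_eq, ← Module.End.mul_apply, ← pow_succ']
    exact Submodule.add_mem _ (mem_spn hk e s _) (mem_spn hk e s _)
  exact h1 hx

section

variable {p : V ≃ₗ[F] V} (hp : p ∈ O Q) {k : ℕ} (hk : nl p ^ k = 0) {I : Type w}
    [Fintype I] (e : I → V)
    (hM : ∀ c : I → F, (∀ t, ∑ s, c s * polar Q (e s) ((nl p ^ (k - 1)) (e t)) = 0) → c = 0)

include hp hk hM

theorem linearIndependent_spn :
    LinearIndependent F (fun x : I × Fin k => (nl p ^ (x.2 : ℕ)) (e x.1)) := by
  classical
  rw [Fintype.linearIndependent_iff]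
  intro c hc x
  have := coeff_zero hp hk e hM c (fun t j => by rw [hc, polar_zero_left])
  exact congrFun this x

theorem finrank_spn : finrank F (spn p k e) = Fintype.card I * k := by
  classical
  rw [spn, finrank_span_eq_card (linearIndependent_spn hp hk e hM), Fintype.card_prod,
    Fintype.card_fin]

theorem nondeg_spn : Nondeg (res Q (spn p k e)) := by
  classical
  rw [nondeg_res_iff]
  intro x hx hxy
  obtain ⟨c, rfl⟩ := (Submodule.mem_span_range_iff_exists_fun F).1 hx
  have := coeff_zero hp hk e hM c (fun t j => hxy _ (mem_spn hk e t j))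
  rw [this]
  simp

end

/-- restriction of `nl p` -/
theorem coe_nl_resT [FiniteDimensional F V] {p : V ≃ₗ[F] V} {W : Submodule F V} (h : Inv p W)
    (i : ℕ) (w : W) : (((nl (resT p W h)) ^ i) w : V) = (nl p ^ i) (w : V) := by
  induction i generalizing w with
  | zero => rfl
  | succ i ih =>
    rw [pow_succ, pow_succ, Module.End.mul_apply, Module.End.mul_apply, ih]
    rfl

theorem nl_resT_pow [FiniteDimensional F V] {p : V ≃ₗ[F] V} {W : Submodule F V} (h : Inv p W)
    {k : ℕ} (hk : nl p ^ k = 0) : nl (resT p W h) ^ k = 0 := by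
  ext w
  rw [coe_nl_resT, hk]
  rfl

theorem span_range_subtype {I : Type w} {W : Submodule F V} (b : I → W)
    (hb : Submodule.span F (Set.range fun i => (b i : V)) = W) :
    Submodule.span F (Set.range b) = ⊤ := by
  apply Submodule.map_injective_of_injective W.injective_subtype
  rw [Submodule.map_span, Submodule.map_subtype_top, ← Set.range_comp]
  exact hb

/-! ### Gluing -/

theorem resT_glue [FiniteDimensional F V] {W : Submodule F V} (h : Nondeg (res Q W))
    {p : V ≃ₗ[F] V} (hW : Inv p W) (hW' : Inv p (perp Q W)) :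
    glue h (resT p W hW, resT p (perp Q W) hW') = p := by
  ext v
  obtain ⟨a, b, rfl⟩ := exists_add_perp h v
  rw [glue_apply, map_add]
  rfl

theorem finrank_fixS_glue [FiniteDimensional F V] {W : Submodule F V} (h : Nondeg (res Q W))
    (x : (W ≃ₗ[F] W) × (perp Q W ≃ₗ[F] perp Q W)) :
    finrank F (fixS (glue h x)) = finrank F (fixS x.1) + finrank F (fixS x.2) := by
  have h1 : fixS (glue h x) = (fixS (LinearEquiv.prodCongr x.1 x.2)).map
      (decomp h : (W × perp Q W) →ₗ[F] V) := fixS_tr (decomp h) _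
  have h2 : fixS (LinearEquiv.prodCongr x.1 x.2) = (fixS x.1).prod (fixS x.2) := by
    ext y
    rw [mem_fixS, Submodule.mem_prod, mem_fixS, mem_fixS]
    constructor
    · intro h3
      exact ⟨congrArg Prod.fst h3, congrArg Prod.snd h3⟩
    · rintro ⟨h3, h4⟩
      exact Prod.ext h3 h4
  rw [h1, LinearEquiv.finrank_map_eq, h2, (prodSub _ _).finrank_eq, Module.finrank_prod]

theorem good_glue [FiniteDimensional F V] {W : Submodule F V} (h : Nondeg (res Q W))
    {p : V ≃ₗ[F] V} (hW : Inv p W) (hW' : Inv p (perp Q W))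
    (h1 : Good (res Q W) (resT p W hW)) (h2 : Good (res Q (perp Q W)) (resT p (perp Q W) hW')) :
    Good Q p := by
  obtain ⟨a, ha, ha2, hap, had⟩ := h1
  obtain ⟨b, hb, hb2, hbp, hbd⟩ := h2
  refine ⟨glue h (a, b), (glue_mem_O h).2 ⟨ha, hb⟩, ?_, ?_, ?_⟩
  · rw [← map_mul, Prod.mk_mul_mk, ha2, hb2]
    exact map_one (glue h)
  · have e1 : p⁻¹ = glue h ((resT p W hW)⁻¹, (resT p (perp Q W) hW')⁻¹) := by
      have : glue h ((resT p W hW)⁻¹, (resT p (perp Q W) hW')⁻¹) =
          (glue h (resT p W hW, resT p (perp Q W) hW'))⁻¹ := by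
        rw [← map_inv]
        rfl
      rw [this, resT_glue]
    rw [e1]
    conv_lhs => rw [← resT_glue h hW hW']
    rw [← map_mul, ← map_mul, Prod.mk_mul_mk, Prod.mk_mul_mk, hap, hbp]
  · rw [finrank_fixS_glue]
    have := (decomp h).finrank_eq
    rw [Module.finrank_prod] at this
    rw [← this]
    change 2 * (finrank F (fixS a) + finrank F (fixS b)) = _
    rw [← had, ← hbd]
    ring

/-! ### Choice of two generators -/

section Choice

variable {p : V ≃ₗ[F] V} (hp : p ∈ O Q) {k : ℕ} (hk : nl p ^ k = 0) (hk1 : 1 ≤ k)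
  (hβ : ∀ x, polar Q x ((nl p ^ (k - 1)) x) = 0)

include hp hk hk1 hβ

theorem Q_zero {i : ℕ} (hi : k ≤ 2 * i) (x : V) : Q ((nl p ^ i) x) = 0 := by
  obtain ⟨i, rfl⟩ : ∃ i', i = i' + 1 := ⟨i - 1, by omega⟩
  have e1 : (nl p ^ (i + 1)) x = nl p ((nl p ^ i) x) := by rw [pow_succ', Module.End.mul_apply]
  rw [e1, Q_nl hp, ← e1]
  by_cases h : k ≤ i + (i + 1)
  · exact polar_zero hp hk h x x
  · rw [polar_top hp hk (by omega)]
    exact hβ x

theorem exists_pair [Finite F] {a b : V} (hab : polar Q a ((nl p ^ (k - 1)) b) ≠ 0) :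
    ∃ u v : V, polar Q u ((nl p ^ (k - 1)) v) ≠ 0 ∧
      ∀ j : ℕ, Q ((nl p ^ j) u) = Q ((nl p ^ j) v) := by
  have h2 : (2 : F) = 0 := CharTwo.two_eq_zero
  have key : ∀ t : ℕ, t ≤ k → ∃ u v : V, polar Q u ((nl p ^ (k - 1)) v) ≠ 0 ∧
      ∀ j : ℕ, k - t ≤ j → Q ((nl p ^ j) u) = Q ((nl p ^ j) v) := by
    intro t
    induction t with
    | zero =>
      intro _
      refine ⟨a, b, hab, fun j hj => ?_⟩
      rw [Q_zero hp hk hk1 hβ (by omega), Q_zero hp hk hk1 hβ (by omega)]
    | succ t ih =>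
      intro ht
      obtain ⟨u, v, huv, hj⟩ := ih (by omega)
      obtain ⟨i, hi⟩ : ∃ i, i = k - (t + 1) := ⟨_, rfl⟩
      have hvu : polar Q v ((nl p ^ (k - 1)) u) ≠ 0 := by
        rwa [← top_symm hp hk hk1]
      rcases Nat.lt_or_ge (2 * i + 1) k with h1 | h1
      · -- modify `v`
        obtain ⟨m, hm⟩ : ∃ m, m = k - 1 - 2 * i := ⟨_, rfl⟩
        let c : F := (Q ((nl p ^ i) u) + Q ((nl p ^ i) v)) / polar Q v ((nl p ^ (k - 1)) u)
        have e1 : ∀ j, (nl p ^ j) (v + c • (nl p ^ m) u) =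
            (nl p ^ j) v + c • (nl p ^ (j + m)) u := by
          intro j
          rw [map_add, map_smul, pow_add, Module.End.mul_apply]
        refine ⟨u, v + c • (nl p ^ m) u, ?_, ?_⟩
        · rw [e1, polar_add_right]
          have h3 : nl p ^ (k - 1 + m) = 0 := by
            rw [← Nat.sub_add_cancel (show k ≤ k - 1 + m by omega), pow_add, hk, mul_zero]
          rw [h3, LinearMap.zero_apply, smul_zero, polar_zero_right, add_zero]
          exact huv
        · intro j hj'
          rw [e1, Q_add, QuadraticMap.map_smul, Q_zero hp hk hk1 hβ (i := j + m) (by omega),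
            smul_zero, add_zero, polar_smul_right, smul_eq_mul]
          by_cases hji : j = i
          · subst hji
            rw [polar_top hp hk (by omega)]
            have h3 : c * polar Q v ((nl p ^ (k - 1)) u) = Q ((nl p ^ j) u) + Q ((nl p ^ j) v) :=
              div_mul_cancel₀ _ hvu
            rw [h3]
            linear_combination (-(Q ((nl p ^ j) v))) * h2
          · rw [polar_zero hp hk (by omega), mul_zero, add_zero]
            exact hj j (by omega)
      · rcases Nat.lt_or_ge (2 * i) k with h3 | h3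
        · -- `k = 2 i + 1`
          have hki : 2 * i + 1 = k := by omega
          have hbig : ∀ (x y : V) (j : ℕ), i < j → Q ((nl p ^ j) x) = Q ((nl p ^ j) y) := by
            intro x y j hj'
            rw [Q_zero hp hk hk1 hβ (by omega), Q_zero hp hk hk1 hβ (by omega)]
          suffices hs : ∃ u v : V, polar Q u ((nl p ^ (k - 1)) v) ≠ 0 ∧
              Q ((nl p ^ i) u) = Q ((nl p ^ i) v) by
            obtain ⟨u, v, h4, h5⟩ := hs
            refine ⟨u, v, h4, fun j hj' => ?_⟩
            by_cases hji : j = i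
            · rw [hji, h5]
            · exact hbig u v j (by omega)
          have hmod : ∀ u v : V, polar Q v ((nl p ^ (k - 1)) u) ≠ 0 → Q ((nl p ^ i) u) = 0 →
              ∃ u v : V, polar Q u ((nl p ^ (k - 1)) v) ≠ 0 ∧
              Q ((nl p ^ i) u) = Q ((nl p ^ i) v) := by
            intro u v hvu hu
            let c : F := Q ((nl p ^ i) v) / polar Q v ((nl p ^ (k - 1)) u)
            refine ⟨u, v + c • u, ?_, ?_⟩
            · rw [map_add, map_smul, polar_add_right, polar_smul_right, hβ, smul_zero, add_zero,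
                top_symm hp hk hk1]
              exact hvu
            · rw [map_add, map_smul, Q_add, QuadraticMap.map_smul, hu, smul_zero, add_zero,
                polar_smul_right, smul_eq_mul, polar_top hp hk (by omega)]
              have h4 : c * polar Q v ((nl p ^ (k - 1)) u) = Q ((nl p ^ i) v) :=
                div_mul_cancel₀ _ hvu
              rw [h4]
              exact (CharTwo.add_self_eq_zero _).symm
          by_cases hu : Q ((nl p ^ i) u) = 0
          · exact hmod u v hvu hu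
          · by_cases hv : Q ((nl p ^ i) v) = 0
            · exact hmod v u huv hv
            · obtain ⟨c, hc⟩ : ∃ c : F, c * c = Q ((nl p ^ i) u) / Q ((nl p ^ i) v) := by
                have := Fintype.ofFinite F
                obtain ⟨c, hc⟩ := (Finite.injective_iff_surjective (f := frobenius F 2)).1
                  (frobenius_inj F 2) (Q ((nl p ^ i) u) / Q ((nl p ^ i) v))
                exact ⟨c, by rw [← hc, frobenius_def, pow_two]⟩
              refine ⟨u, c • v, ?_, ?_⟩
              · rw [map_smul, polar_smul_right, smul_eq_mul]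
                refine mul_ne_zero ?_ huv
                rintro rfl
                rw [mul_zero, eq_comm, div_eq_zero_iff] at hc
                exact hc.elim hu hv
              · rw [map_smul, QuadraticMap.map_smul, smul_eq_mul, hc, div_mul_cancel₀ _ hv]
        · refine ⟨u, v, huv, fun j hj' => ?_⟩
          rw [Q_zero hp hk hk1 hβ (by omega), Q_zero hp hk hk1 hβ (by omega)]
  obtain ⟨u, v, h1, h3⟩ := key k le_rfl
  exact ⟨u, v, h1, fun j => h3 j (by omega)⟩

end Choice

/-! ### The induction -/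

theorem good_step_one [FiniteDimensional F V] {p : V ≃ₗ[F] V} (hp : p ∈ O Q) {k : ℕ}
    (hk : nl p ^ k = 0) (hk1 : 1 ≤ k) {v : V} (hv : polar Q v ((nl p ^ (k - 1)) v) ≠ 0) :
    ∃ W : Submodule F V, 0 < finrank F W ∧ Nondeg (res Q W) ∧ ∃ hW : Inv p W,
      Good (res Q W) (resT p W hW) := by
  classical
  obtain ⟨n, rfl⟩ : ∃ n, k = 2 * n := by
    rcases Nat.even_or_odd' k with ⟨n, h | h⟩
    · exact ⟨n, h⟩
    · exfalso
      apply hv
      rw [← polar_top hp hk (i := n) (j := n) (by omega), polar_self_zero]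
  let e : Unit → V := fun _ => v
  have hM : ∀ c : Unit → F, (∀ t, ∑ s, c s * polar Q (e s) ((nl p ^ (2 * n - 1)) (e t)) = 0) →
      c = 0 := by
    intro c hc
    have := hc ()
    rw [Finset.univ_unique, Finset.sum_singleton] at this
    funext s
    exact (mul_eq_zero.1 this).resolve_right hv
  have hnd := nondeg_spn hp hk e hM
  have hfr := finrank_spn hp hk e hM
  have hinv := inv_spn hk e
  rw [Fintype.card_unit, one_mul] at hfr
  refine ⟨spn p (2 * n) e, by omega, hnd, hinv, ?_⟩
  refine good_cyclic (n := n) hnd (resT_mem_O hp hinv) hfr ⟨v, mem_spn hk e () 0⟩ ?_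
  apply span_range_subtype
  simp only [coe_nl_resT]
  rw [spn]
  congr 1
  ext x
  constructor
  · rintro ⟨i, rfl⟩
    exact ⟨((), i), rfl⟩
  · rintro ⟨⟨_, i⟩, rfl⟩
    exact ⟨i, rfl⟩

theorem good_step_two [Finite F] [FiniteDimensional F V] {p : V ≃ₗ[F] V} (hp : p ∈ O Q) {k : ℕ}
    (hk : nl p ^ k = 0) (hk1 : 1 ≤ k) (hβ : ∀ x, polar Q x ((nl p ^ (k - 1)) x) = 0)
    {a b : V} (hab : polar Q a ((nl p ^ (k - 1)) b) ≠ 0) :
    ∃ W : Submodule F V, 0 < finrank F W ∧ Nondeg (res Q W) ∧ ∃ hW : Inv p W,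
      Good (res Q W) (resT p W hW) := by
  classical
  obtain ⟨u, v, huv, hj⟩ := exists_pair hp hk hk1 hβ hab
  have hvu : polar Q v ((nl p ^ (k - 1)) u) ≠ 0 := by rwa [← top_symm hp hk hk1]
  let e : Bool → V := fun s => cond s u v
  have hM : ∀ c : Bool → F, (∀ t, ∑ s, c s * polar Q (e s) ((nl p ^ (k - 1)) (e t)) = 0) →
      c = 0 := by
    intro c hc
    have h1 := hc true
    have h2 := hc false
    rw [Fintype.sum_bool] at h1 h2
    change c true * polar Q u ((nl p ^ (k - 1)) u) + c false * polar Q v ((nl p ^ (k - 1)) u) = 0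
      at h1
    change c true * polar Q u ((nl p ^ (k - 1)) v) + c false * polar Q v ((nl p ^ (k - 1)) v) = 0
      at h2
    rw [hβ, mul_zero, zero_add] at h1
    rw [hβ, mul_zero, add_zero] at h2
    funext s
    cases s
    · exact (mul_eq_zero.1 h1).resolve_right hvu
    · exact (mul_eq_zero.1 h2).resolve_right huv
  have hnd := nondeg_spn hp hk e hM
  have hfr := finrank_spn hp hk e hM
  have hinv := inv_spn hk e
  rw [Fintype.card_bool] at hfr
  refine ⟨spn p k e, by omega, hnd, hinv, ?_⟩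
  refine good_two (k := k) hnd (resT_mem_O hp hinv) (nl_resT_pow hinv hk) hfr
    ⟨u, mem_spn hk e true 0⟩ ⟨v, mem_spn hk e false 0⟩ ?_ ?_
  · rw [← Submodule.span_union, ← Set.Sum.elim_range]
    apply span_range_subtype
    change _ = Submodule.span F (Set.range fun x : Bool × Fin k => (nl p ^ (x.2 : ℕ)) (e x.1))
    congr 1
    ext x
    constructor
    · rintro ⟨i | i, rfl⟩
      · exact ⟨(true, i), (coe_nl_resT hinv (i : ℕ) ⟨u, mem_spn hk e true 0⟩).symm⟩
      · exact ⟨(false, i), (coe_nl_resT hinv (i : ℕ) ⟨v, mem_spn hk e false 0⟩).symm⟩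
    · rintro ⟨⟨s, i⟩, rfl⟩
      cases s
      · exact ⟨Sum.inr i, coe_nl_resT hinv (i : ℕ) ⟨v, mem_spn hk e false 0⟩⟩
      · exact ⟨Sum.inl i, coe_nl_resT hinv (i : ℕ) ⟨u, mem_spn hk e true 0⟩⟩
  · intro j
    rw [res_apply, res_apply, coe_nl_resT, coe_nl_resT]
    exact hj j

theorem good_of_nilpotent [Finite F] (d : ℕ) : ∀ {V : Type v} [AddCommGroup V] [Module F V]
    [FiniteDimensional F V] (Q : QuadraticForm F V), Nondeg Q → finrank F V = d →
    ∀ (p : V ≃ₗ[F] V), p ∈ O Q → (∃ k, nl p ^ k = 0) → Good Q p := by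
  classical
  induction d using Nat.strong_induction_on with
  | _ d ih =>
    intro V _ _ _ Q hQ hd p hp hnil
    rcases Nat.eq_zero_or_pos d with h0 | h0
    · subst h0
      have hs : Subsingleton V := Module.finrank_zero_iff.1 hd
      have hall : ∀ g g' : V ≃ₗ[F] V, g = g' := fun g g' => by
        ext x
        exact Subsingleton.elim _ _
      refine ⟨1, one_mem _, hall _ _, hall _ _, ?_⟩
      have := Submodule.finrank_le (fixS (1 : V ≃ₗ[F] V))
      omega
    · obtain ⟨k, hk, hmin⟩ : ∃ k, nl p ^ k = 0 ∧ ∀ j < k, nl p ^ j ≠ 0 :=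
        ⟨Nat.find hnil, Nat.find_spec hnil, fun j hj => Nat.find_min hnil hj⟩
      have hnt : Nontrivial V := (Module.finrank_pos_iff (R := F)).1 (by omega)
      have hk1 : 1 ≤ k := by
        rcases Nat.eq_zero_or_pos k with h | h
        · exfalso
          subst h
          rw [pow_zero] at hk
          exact one_ne_zero hk
        · exact h
      have hstep : ∃ W : Submodule F V, 0 < finrank F W ∧ Nondeg (res Q W) ∧ ∃ hW : Inv p W,
          Good (res Q W) (resT p W hW) := by
        by_cases hα : ∃ v, polar Q v ((nl p ^ (k - 1)) v) ≠ 0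
        · obtain ⟨v, hv⟩ := hα
          exact good_step_one hp hk hk1 hv
        · push Not at hα
          obtain ⟨b, hb⟩ : ∃ b, (nl p ^ (k - 1)) b ≠ 0 := by
            by_contra hcon
            push Not at hcon
            exact hmin (k - 1) (by omega) (LinearMap.ext hcon)
          obtain ⟨a, ha⟩ : ∃ a, polar Q ((nl p ^ (k - 1)) b) a ≠ 0 := by
            by_contra hcon
            push Not at hcon
            exact hb (hQ _ hcon)
          rw [polar_comm] at ha
          exact good_step_two hp hk hk1 hα ha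
      obtain ⟨W, hW0, hWn, hWi, hWg⟩ := hstep
      have hpi : Inv p (perp Q W) := inv_perp hp hWi
      have hfr := finrank_add_perp hQ W
      refine good_glue hWn hWi hpi hWg ?_
      exact ih (finrank F (perp Q W)) (by omega) (res Q (perp Q W)) (nondeg_perp hQ hWn) rfl
        (resT p (perp Q W) hpi) (resT_mem_O hp hpi) ⟨k, nl_resT_pow hpi hk⟩

theorem nl_pow_two_pow (p : V ≃ₗ[F] V) {a : ℕ} (hpa : p ^ 2 ^ a = 1) : nl p ^ 2 ^ a = 0 := by
  have key : ∀ (a : ℕ) (x : V), (nl p ^ 2 ^ a) x = (p ^ 2 ^ a) x + x := by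
    intro a
    induction a with
    | zero => intro x; rw [pow_zero, pow_one, pow_one, nl_apply]
    | succ a ih =>
      intro x
      rw [pow_succ, mul_two, pow_add, pow_add, Module.End.mul_apply, ih, ih, map_add,
        LinearEquiv.mul_apply]
      have := add_self' F ((p ^ 2 ^ a) x)
      calc _ = (p ^ 2 ^ a) ((p ^ 2 ^ a) x) + x + ((p ^ 2 ^ a) x + (p ^ 2 ^ a) x) := by abel
        _ = _ := by rw [this, add_zero]
  ext x
  rw [key, hpa]
  exact add_self' F x

/-- **Every `2`-element of `O Q` is inverted by an isometry of order at most two whose fixed space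
has half the dimension.** -/
theorem unipotent_good [Finite F] [FiniteDimensional F V] (hQ : Nondeg Q) {p : V ≃ₗ[F] V}
    (hp : p ∈ O Q) {a : ℕ} (hpa : p ^ 2 ^ a = 1) : Good Q p :=
  good_of_nilpotent (finrank F V) Q hQ rfl p hp ⟨_, nl_pow_two_pow p hpa⟩

/-- the form required by the task `[L1 FSUni]` -/
theorem unipotent_inv [Finite F] [FiniteDimensional F V] (Q : QuadraticForm F V) (hQ : Nondeg Q)
    {n : ℕ} (hd : finrank F V = 2 * n) {p : V ≃ₗ[F] V} (hp : p ∈ O Q) {a : ℕ}
    (hpa : p ^ 2 ^ a = 1) :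
    ∃ h ∈ O Q, h * p * h⁻¹ = p⁻¹ ∧
      (finrank F (LinearMap.ker ((h : V →ₗ[F] V) - LinearMap.id)) + n) % 2 = 0 := by
  obtain ⟨h, hh, -, hhp, hf⟩ := unipotent_good hQ hp hpa
  refine ⟨h, hh, by rw [hhp, mul_assoc, mul_inv_cancel, mul_one], ?_⟩
  have h1 : finrank F (fixS h) = n := by omega
  change (finrank F (fixS h) + n) % 2 = 0
  omega

end Cfsg.Agent.H892.FSUni
end
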